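import Groth.Agent.LabG36.Basic
import Groth.Prelude.Def_W4c4cptpiccptjacBI

/-!
The Basic Inequality on dual graphs: minimisation, normal form, extremal twists, pull-back.
-/

universe u

namespace Groth.Agent.LabG36

open Finset LabGraph

set_option linter.unusedSectionVars false

variable {V E : Type u} [Fintype V] [Fintype E] [DecidableEq V] [DecidableEq E] {ends : E → V × V} {w : V → ℕ}

/-- Indicator of membership, as an integer. -/
def ind (Y : Finset V) (v : V) : ℤ := if v ∈ Y then 1 else 0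

/-- Numerator of the deviation in the Basic Inequality. -/
def qf (ends : E → V × V) (w : V → ℕ) (d : V → ℤ) (Y : Finset V) : ℤ :=
  canDeg ends w univ * (∑ v ∈ Y, d v) - (∑ v, d v) * canDeg ends w Y

theorem satisfiesBI_iff (d : V → ℤ) :
    SatisfiesBI ends w d ↔ ∀ Y, 2 * |qf ends w d Y| ≤ (cut ends Y : ℤ) * canDeg ends w univ := Iff.rfl

theorem qf_inter_union (d : V → ℤ) (Y Z : Finset V) :
    qf ends w d (Y ∪ Z) + qf ends w d (Y ∩ Z) = qf ends w d Y + qf ends w d Z := by
  have h1 := sum_union_inter (f := d) (s₁ := Y) (s₂ := Z)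
  have h2 := sum_union_inter (f := fun v => 2 * (w v : ℤ) - 2 + (endCount ends univ v : ℤ)) (s₁ := Y) (s₂ := Z)
  simp only [qf, canDeg] at *
  linear_combination (∑ v : V, (2 * (w v : ℤ) - 2 + (endCount ends univ v : ℤ))) * h1 - (∑ v, d v) * h2

theorem qf_union (d : V → ℤ) {A B : Finset V} (h : Disjoint A B) :
    qf ends w d (A ∪ B) = qf ends w d A + qf ends w d B := by
  simp only [qf, canDeg, sum_union h]; ring

theorem qf_eq_sum (d : V → ℤ) (Y : Finset V) : qf ends w d Y = ∑ v ∈ Y, qf ends w d {v} := by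
  simp [qf, canDeg, mul_sum, sum_sub_distrib]

theorem qf_univ (d : V → ℤ) : qf ends w d univ = 0 := by simp [qf, mul_comm]

theorem canDeg_univ : canDeg ends w univ = 2 * genus ends w - 2 := by
  simp only [canDeg, genus, sum_add_distrib, sum_sub_distrib, ← mul_sum]
  have : ∑ v, (endCount ends (univ : Finset E) v : ℤ) = 2 * (Fintype.card E : ℤ) := by
    rw [← Nat.cast_sum, sum_endCount]
    simp [sum_const, mul_comm]
  rw [this]; simp; ring

theorem twist_sum (φ : V → ℤ) (Y : Finset V) :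
    ∑ v ∈ Y, twist ends φ v = ∑ e, (ind Y (ends e).1 - ind Y (ends e).2) * dd ends φ e := by
  simp only [twist]
  rw [sum_comm]
  refine sum_congr rfl fun e _ => ?_
  simp only [sum_add_distrib, sum_ite_eq, ind, dd]
  split_ifs <;> ring

theorem twist_total (φ : V → ℤ) : ∑ v, twist ends φ v = 0 := by simp [twist_sum, ind]

theorem cut_eq (Y : Finset V) : (cut ends Y : ℤ) = ∑ e, (ind Y (ends e).1 - ind Y (ends e).2) ^ 2 := by
  rw [cut, card_filter, Nat.cast_sum]
  refine sum_congr rfl fun e _ => ?_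
  by_cases h1 : (ends e).1 ∈ Y <;> by_cases h2 : (ends e).2 ∈ Y <;> simp [ind, h1, h2]

theorem qf_twist (d φ : V → ℤ) (Y : Finset V) :
    qf ends w (fun v => d v + twist ends φ v) Y =
      qf ends w d Y + canDeg ends w univ * ∑ e, (ind Y (ends e).1 - ind Y (ends e).2) * dd ends φ e := by
  simp only [qf, sum_add_distrib, twist_total]
  rw [twist_sum]; ring

theorem exists_twist_BI (hconn : Connected ends) (hg : 2 ≤ genus ends w) (d : V → ℤ) :
    ∃ d' : V → ℤ, TwistEquiv ends d' d ∧ SatisfiesBI ends w d' := by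
  classical
  set K := canDeg ends w univ with hK
  have hK1 : 1 ≤ K := by rw [hK, canDeg_univ]; omega
  obtain ⟨v₀⟩ := hconn.1
  choose γ hγ using fun v => exists_chain (conn_univ hconn v₀ v)
  let q : V → ℤ := fun v => qf ends w d {v}
  let c : E → ℤ := fun e => ∑ v, q v * γ v e
  have hq0 : ∑ v, q v = 0 := by rw [← qf_univ (ends := ends) (w := w) d, qf_eq_sum]
  let F : (V → ℤ) → ℤ := fun φ => (∑ e, K * dd ends φ e ^ 2) - 2 * ∑ v, φ v * q v
  have hq : ∀ φ : V → ℤ, ∑ v, φ v * q v = ∑ e, c e * dd ends φ e := fun φ => by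
    calc ∑ v, φ v * q v = ∑ v, q v * (φ v - φ v₀) := by
          simp only [mul_sub, sum_sub_distrib, ← sum_mul, hq0, zero_mul, sub_zero]
          exact sum_congr rfl fun v _ => mul_comm _ _
      _ = ∑ v, q v * ∑ e, γ v e * dd ends φ e := sum_congr rfl fun v _ => by
          rw [← sum_mul_boundary]; simp [(hγ v).2, mul_sub, sum_sub_distrib]
      _ = _ := by
          simp only [mul_sum, c, sum_mul]
          rw [sum_comm]
          exact sum_congr rfl fun e _ => sum_congr rfl fun v _ => by ring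
  have hbd : ∀ φ, -∑ e, c e ^ 2 ≤ F φ := fun φ => by
    simp only [F, hq, mul_sum, ← sum_sub_distrib, ← sum_neg_distrib]
    refine sum_le_sum fun e _ => ?_
    nlinarith [sq_nonneg (dd ends φ e - c e), mul_nonneg (sub_nonneg.2 hK1) (sq_nonneg (dd ends φ e))]
  obtain ⟨m, ⟨φ, rfl⟩, hmin⟩ := Int.exists_least_of_bdd (P := fun z => ∃ φ, F φ = z)
    ⟨-∑ e, c e ^ 2, fun z ⟨φ, hφ⟩ => hφ ▸ hbd φ⟩ ⟨F 0, 0, rfl⟩
  refine ⟨fun v => d v + twist ends φ v, ⟨φ, fun v => by ring⟩, fun Y => ?_⟩
  have key : ∀ s : ℤ, 0 ≤ K * s ^ 2 * (cut ends Y : ℤ) - 2 * s * qf ends w (fun v => d v + twist ends φ v) Y := by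
    intro s
    have h := hmin _ ⟨fun v => φ v + s * ind Y v, rfl⟩
    have e1 : ∑ v, s * ind Y v * q v = s * qf ends w d Y := by
      rw [qf_eq_sum, mul_sum]
      simp [ind, q, sum_ite_mem, univ_inter]
    have e2 : ∑ v, (φ v + s * ind Y v) * q v = (∑ v, φ v * q v) + s * qf ends w d Y := by
      rw [← e1, ← sum_add_distrib]; exact sum_congr rfl fun v _ => by ring
    have e3 : ∑ e, K * dd ends (fun v => φ v + s * ind Y v) e ^ 2 =
        (∑ e, K * dd ends φ e ^ 2) + K * s ^ 2 * (cut ends Y : ℤ)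
          - 2 * s * (K * ∑ e, (ind Y (ends e).1 - ind Y (ends e).2) * dd ends φ e) := by
      rw [cut_eq, mul_sum, mul_sum, mul_sum, ← sum_add_distrib, ← sum_sub_distrib]
      refine sum_congr rfl fun e _ => ?_
      simp only [dd]; ring
    simp only [F, e2, e3] at h
    rw [qf_twist]
    linarith
  have h1 := key 1
  have h2 := key (-1)
  rw [show (canDeg ends w univ * ∑ v ∈ Y, (d v + twist ends φ v) - (∑ v, (d v + twist ends φ v)) * canDeg ends w Y)
    = qf ends w (fun v => d v + twist ends φ v) Y from rfl]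
  rcases abs_cases (qf ends w (fun v => d v + twist ends φ v) Y) with ⟨h, -⟩ | ⟨h, -⟩ <;> rw [h] <;> nlinarith

theorem satisfiesBI_twist_upper (hg : 1 ≤ genus ends w) (d : V → ℤ) (hBI : SatisfiesBI ends w d) (Z : Finset V)
    (hZ : 2 * qf ends w d Z = (cut ends Z : ℤ) * canDeg ends w univ) :
    SatisfiesBI ends w (fun v => d v + twist ends (fun u => if u ∈ Z then 1 else 0) v) := by
  classical
  rw [satisfiesBI_iff] at hBI ⊢
  intro Y
  set K := canDeg ends w univ with hK
  have hK0 : 0 ≤ K := by rw [hK, canDeg_univ]; omega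
  set t := ∑ e, (ind Y (ends e).1 - ind Y (ends e).2) * dd ends (fun u => if u ∈ Z then (1 : ℤ) else 0) e with ht
  rw [qf_twist, ← hK, ← ht]
  have e1 := qf_inter_union (ends := ends) (w := w) d Y Z
  have e2 : qf ends w d Y + qf ends w d (Z \ Y) = qf ends w d Z + qf ends w d (Y \ Z) := by
    rw [← qf_union d disjoint_sdiff, ← qf_union d disjoint_sdiff, union_sdiff_self_eq_union,
      union_sdiff_self_eq_union, union_comm]
  have hu := hBI (Y ∪ Z)
  have hi := hBI (Y ∩ Z)
  have hb := hBI (Y \ Z)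
  have hc := hBI (Z \ Y)
  have u1 : (cut ends (Y ∪ Z) : ℤ) + cut ends (Y ∩ Z) - cut ends Z + 2 * t ≤ cut ends Y := by
    simp only [cut_eq, ht, mul_sum, ← sum_add_distrib, ← sum_sub_distrib]
    refine sum_le_sum fun e _ => ?_
    by_cases a1 : (ends e).1 ∈ Y <;> by_cases a2 : (ends e).2 ∈ Y <;> by_cases b1 : (ends e).1 ∈ Z <;>
      by_cases b2 : (ends e).2 ∈ Z <;> simp [ind, dd, a1, a2, b1, b2]
  have u2 : (cut ends (Y \ Z) : ℤ) + cut ends (Z \ Y) - cut ends Z - 2 * t ≤ cut ends Y := by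
    simp only [cut_eq, ht, mul_sum, ← sum_add_distrib, ← sum_sub_distrib]
    refine sum_le_sum fun e _ => ?_
    by_cases a1 : (ends e).1 ∈ Y <;> by_cases a2 : (ends e).2 ∈ Y <;> by_cases b1 : (ends e).1 ∈ Z <;>
      by_cases b2 : (ends e).2 ∈ Z <;> simp [ind, dd, a1, a2, b1, b2]
  have v1 := mul_le_mul_of_nonneg_right u1 hK0
  have v2 := mul_le_mul_of_nonneg_right u2 hK0
  have := le_abs_self (qf ends w d (Y ∪ Z))
  have := le_abs_self (qf ends w d (Y ∩ Z))
  have := neg_abs_le (qf ends w d (Y \ Z))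
  have := le_abs_self (qf ends w d (Z \ Y))
  rcases abs_cases (qf ends w d Y + K * t) with ⟨h, -⟩ | ⟨h, -⟩ <;> rw [h] <;> nlinarith

theorem normal_form (hconn : Connected ends) (hg : 2 ≤ genus ends w) (d d' : V → ℤ)
    (hBI : SatisfiesBI ends w d) (hBI' : SatisfiesBI ends w d') (heq : TwistEquiv ends d d') :
    ∃ (q : ℕ) (h : V → ℕ), (∀ v : V, h v ≤ q) ∧ (∀ i : ℕ, i ≤ q → ∃ v : V, h v = i) ∧
      (∀ v : V, d v - d' v = twist ends (fun u => (h u : ℤ)) v) ∧
      (∀ i j : ℕ, i ≤ q → j ≤ q → i ≠ j →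
        ((∃ e : E, (h (ends e).1 = i ∧ h (ends e).2 = j) ∨ (h (ends e).1 = j ∧ h (ends e).2 = i)) ↔
          (i + 1 = j ∨ j + 1 = i))) := by
  classical
  obtain ⟨φ, hφ⟩ := heq
  set K := canDeg ends w univ with hK
  have hK1 : 1 ≤ K := by rw [hK, canDeg_univ]; omega
  have hd : d = fun v => d' v + twist ends φ v := funext fun v => by have := hφ v; omega
  have hstep : ∀ e, |dd ends φ e| ≤ 1 := by
    intro e
    let i := min (φ (ends e).1) (φ (ends e).2)
    let Y := univ.filter fun v => φ v ≤ i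
    set X : E → ℤ := fun f => (ind Y (ends f).1 - ind Y (ends f).2) * dd ends φ f
        - (ind Y (ends f).1 - ind Y (ends f).2) ^ 2 with hX
    have h1 : ∀ f, 0 ≤ X f := fun f => by
      by_cases a : φ (ends f).1 ≤ i <;> by_cases b : φ (ends f).2 ≤ i <;>
        simp [X, ind, Y, dd, a, b] <;> omega
    have h2 : ∑ f, X f ≤ 0 := by
      have a := (satisfiesBI_iff d).1 hBI Y
      have b := (satisfiesBI_iff d').1 hBI' Y
      rw [hd, qf_twist, ← hK] at a
      rw [← hK] at b
      simp only [X, sum_sub_distrib]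
      rw [← cut_eq]
      set t := ∑ f, (ind Y (ends f).1 - ind Y (ends f).2) * dd ends φ f
      have := le_abs_self (qf ends w d' Y + K * t)
      have := neg_abs_le (qf ends w d' Y)
      by_contra hpos
      nlinarith [mul_le_mul_of_nonneg_left hK1 (le_of_lt (not_le.1 hpos))]
    have h3 := (sum_eq_zero_iff_of_nonneg fun f _ => h1 f).1 (le_antisymm h2 (sum_nonneg fun f _ => h1 f)) e (mem_univ e)
    rw [abs_le]
    by_cases a : φ (ends e).1 ≤ i <;> by_cases b : φ (ends e).2 ≤ i <;>
      simp [X, ind, Y, dd, a, b] at h3 ⊢ <;> omega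
  obtain ⟨v₀⟩ := hconn.1
  have hne : (univ : Finset V).Nonempty := ⟨v₀, mem_univ _⟩
  obtain ⟨vm, -, hvm⟩ := exists_min_image univ φ hne
  let h : V → ℕ := fun v => (φ v - φ vm).toNat
  have hh : ∀ v, (h v : ℤ) = φ v - φ vm := fun v => Int.toNat_of_nonneg (by have := hvm v (mem_univ v); omega)
  have hjump : ∀ e, h (ends e).1 ≤ h (ends e).2 + 1 ∧ h (ends e).2 ≤ h (ends e).1 + 1 := fun e => by
    have := hstep e; have := hh (ends e).1; have := hh (ends e).2
    simp only [dd, abs_le] at *
    omega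
  have hedge : ∀ i : ℕ, i < univ.sup h → ∃ e, (h (ends e).1 = i ∧ h (ends e).2 = i + 1) ∨ (h (ends e).1 = i + 1 ∧ h (ends e).2 = i) := by
    intro i hi
    by_contra hno
    push Not at hno
    obtain ⟨vM, -, hvM⟩ := exists_mem_eq_sup univ hne h
    have := eq_of_conn (φ := fun v => decide (h v ≤ i)) (fun e _ => by
      have := hjump e
      have := hno e
      simp only [decide_eq_decide]
      omega) (conn_univ hconn vm vM)
    have h0 : h vm = 0 := by simp [h]
    simp only [decide_eq_decide, h0, ← hvM, zero_le, true_iff] at this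
    omega
  refine ⟨univ.sup h, h, fun v => le_sup (mem_univ v), fun i hi => ?_, fun v => ?_, fun i j hi hj hij => ⟨?_, ?_⟩⟩
  · rcases Nat.lt_or_eq_of_le hi with hlt | rfl
    · obtain ⟨e, ⟨a, -⟩ | ⟨-, a⟩⟩ := hedge i hlt <;> exact ⟨_, a⟩
    · obtain ⟨vM, -, hvM⟩ := exists_mem_eq_sup univ hne h
      exact ⟨vM, hvM.symm⟩
  · rw [hφ v]
    simp only [twist, hh]
    exact sum_congr rfl fun e _ => by ring_nf
  · rintro ⟨e, he⟩
    have := hjump e
    omega
  · rintro (rfl | rfl)
    · obtain ⟨e, he⟩ := hedge i (by omega)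
      exact ⟨e, he⟩
    · obtain ⟨e, he⟩ := hedge j (by omega)
      exact ⟨e, he.symm⟩

theorem cut_insert {X : Finset V} {s : V} (hs : s ∉ X) :
    (cut ends (insert s X) : ℤ) = cut ends X + cut ends {s}
      - 2 * ∑ e, ((if (ends e).1 = s ∧ (ends e).2 ∈ X then 1 else 0) + (if (ends e).2 = s ∧ (ends e).1 ∈ X then (1 : ℤ) else 0)) := by
  simp only [cut_eq, mul_sum, ← sum_add_distrib, ← sum_sub_distrib]
  refine sum_congr rfl fun e _ => ?_
  by_cases a1 : (ends e).1 = s <;> by_cases a2 : (ends e).2 = s <;> by_cases b1 : (ends e).1 ∈ X <;>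
    by_cases b2 : (ends e).2 ∈ X <;> simp_all [ind]

theorem canDeg_exceptional {u : V} (hu : IsExceptional ends w u) : canDeg ends w {u} = 0 := by
  obtain ⟨h0, hl, hc⟩ := hu
  have : (endCount ends (univ : Finset E) u : ℤ) = cut ends {u} := by
    rw [cut_eq, endCount, Nat.cast_sum]
    refine sum_congr rfl fun e _ => ?_
    have := hl e
    by_cases a : (ends e).1 = u <;> by_cases b : (ends e).2 = u
    · exact absurd (Prod.ext a b) this
    all_goals simp [ind, a, b]
  simp [canDeg, h0, this, hc]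

theorem exceptional_not_adjacent (hg : 2 ≤ genus ends w) (d : V → ℤ) (hBI : SatisfiesBI ends w d) {Z : Finset V}
    (hZ : 2 * qf ends w d Z = (cut ends Z : ℤ) * canDeg ends w univ) {u : V} (hu : IsExceptional ends w u)
    (hd : d u = 1) (huZ : u ∉ Z) (e : E) :
    ¬ (((ends e).1 = u ∧ (ends e).2 ∈ Z) ∨ ((ends e).2 = u ∧ (ends e).1 ∈ Z)) := by
  intro he
  set K := canDeg ends w univ with hK
  have hK1 : 1 ≤ K := by rw [hK, canDeg_univ]; omega
  have h := (satisfiesBI_iff d).1 hBI (insert u Z)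
  rw [insert_eq, union_comm, qf_union d (by simpa using huZ)] at h
  have hq : qf ends w d {u} = K := by simp [qf, canDeg_exceptional hu, hd, hK]
  rw [hq, union_comm, ← insert_eq, cut_insert huZ, hu.2.2, ← hK] at h
  have hone_le : 1 ≤ ∑ f, ((if (ends f).1 = u ∧ (ends f).2 ∈ Z then 1 else 0) + (if (ends f).2 = u ∧ (ends f).1 ∈ Z then (1 : ℤ) else 0)) := by
    refine le_trans ?_ (single_le_sum (fun f _ => ?_) (mem_univ e))
    · rcases he with he | he
      · rw [if_pos he]; split_ifs <;> norm_num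
      · rw [if_pos he]; split_ifs <;> norm_num
    · split_ifs <;> norm_num
  have := le_abs_self (qf ends w d Z + K)
  push_cast at h
  nlinarith [mul_le_mul_of_nonneg_right hone_le (by omega : (0 : ℤ) ≤ K)]

theorem eq_of_extremal_twists (hconn : Connected ends) (hg : 2 ≤ genus ends w) (d d' : V → ℤ)
    (hBI : SatisfiesBI ends w d)
    (hone : ∀ v : V, IsExceptional ends w v → d v = 1) (hone' : ∀ v : V, IsExceptional ends w v → d' v = 1)
    (hstrict : ∀ Y : Finset V, Y.Nonempty → Y ≠ Finset.univ →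
      2 * qf ends w d Y = (cut ends Y : ℤ) * canDeg ends w univ →
      ∀ e : E, (((ends e).1 ∈ Y ∧ (ends e).2 ∉ Y) ∨ ((ends e).1 ∉ Y ∧ (ends e).2 ∈ Y)) →
        (IsExceptional ends w (ends e).1 ∨ IsExceptional ends w (ends e).2))
    (m : ℕ) (Z : Fin m → Finset V)
    (hext : ∀ i : Fin m, 2 * qf ends w d (Z i) = (cut ends (Z i) : ℤ) * canDeg ends w univ)
    (hsum : ∀ v : V, d' v = d v + ∑ i : Fin m, twist ends (fun u => if u ∈ Z i then (1 : ℤ) else 0) v) :
    d = d' := by
  classical
  let h : V → ℤ := fun v => ∑ i, ind (Z i) v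
  have htw : ∀ v, ∑ i : Fin m, twist ends (fun u => if u ∈ Z i then (1 : ℤ) else 0) v = twist ends h v := fun v => by
    simp only [twist]
    rw [sum_comm]
    refine sum_congr rfl fun e _ => ?_
    simp only [h, ind, sum_add_distrib]
    congr 1 <;> split_ifs <;> simp [sum_sub_distrib]
  -- no exceptional vertex inside some `Z i` has a neighbour outside it
  have key : ∀ i : Fin m, ∀ e : E, ((ends e).1 ∈ Z i ↔ (ends e).2 ∈ Z i) := by
    intro i e
    by_contra hcross
    have hcross' : ((ends e).1 ∈ Z i ∧ (ends e).2 ∉ Z i) ∨ ((ends e).1 ∉ Z i ∧ (ends e).2 ∈ Z i) := by tauto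
    have hne : (Z i).Nonempty := by
      rcases hcross' with ⟨a, -⟩ | ⟨-, a⟩ <;> exact ⟨_, a⟩
    have huniv : Z i ≠ univ := fun hh => by simp [hh] at hcross
    obtain ⟨u, hu, hux⟩ : ∃ u, IsExceptional ends w u ∧ ((ends e).1 = u ∨ (ends e).2 = u) := by
      rcases hstrict _ hne huniv (hext i) e hcross' with hh | hh
      · exact ⟨_, hh, Or.inl rfl⟩
      · exact ⟨_, hh, Or.inr rfl⟩
    have hin : u ∈ Z i := by
      by_contra hout
      refine exceptional_not_adjacent hg d hBI (hext i) hu (hone u hu) hout e ?_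
      rcases hux with rfl | rfl <;> tauto
    have hle : ∀ f, ((ends f).1 = u → h (ends f).2 ≤ h u) ∧ ((ends f).2 = u → h (ends f).1 ≤ h u) := by
      intro f
      constructor <;> intro hfu <;>
      · refine sum_le_sum fun j _ => ?_
        simp only [ind]
        split_ifs with a b <;> norm_num
        exact exceptional_not_adjacent hg d hBI (hext j) hu (hone u hu) b f (by tauto)
    have h0 : twist ends h u = 0 := by
      have := hsum u
      rw [htw, hone u hu, hone' u hu] at this
      omega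
    have hneg : twist ends h u < 0 := by
      simp only [twist]
      refine sum_neg' (fun f _ => ?_) ⟨e, mem_univ _, ?_⟩
      · have := hle f
        split_ifs with a b b
        · rw [a, b]; simp
        · have := this.1 a; rw [a]; omega
        · have := this.2 b; rw [b]; omega
        · simp
      · have hlt : ∀ x, x ∉ Z i → (∀ j, x ∈ Z j → u ∈ Z j) → h x < h u := fun x hx hsub =>
          sum_lt_sum (fun j _ => by simp only [ind]; split_ifs with a b <;> norm_num; exact b (hsub j a))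
            ⟨i, mem_univ i, by simp [ind, hx, hin]⟩
        rcases hux with rfl | rfl
        · have hx : (ends e).2 ∉ Z i := by tauto
          have := hlt _ hx fun j hj => by_contra fun hn =>
            exceptional_not_adjacent hg d hBI (hext j) hu (hone _ hu) hn e (Or.inl ⟨rfl, hj⟩)
          rw [if_pos rfl, if_neg fun h2 => hu.2.1 e (Prod.ext rfl h2)]
          omega
        · have hx : (ends e).1 ∉ Z i := by tauto
          have := hlt _ hx fun j hj => by_contra fun hn =>
            exceptional_not_adjacent hg d hBI (hext j) hu (hone _ hu) hn e (Or.inr ⟨rfl, hj⟩)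
          rw [if_pos rfl, if_neg fun h2 => hu.2.1 e (Prod.ext h2 rfl)]
          omega
    omega
  funext v
  have : ∑ i : Fin m, twist ends (fun u => if u ∈ Z i then (1 : ℤ) else 0) v = 0 := by
    rw [htw]
    simp only [twist]
    refine sum_eq_zero fun e _ => ?_
    have : h (ends e).1 = h (ends e).2 := sum_congr rfl fun i _ => by simp [ind, key i e]
    simp [this]
  rw [hsum v, this, add_zero]

theorem pullback_BI (hZ : IsQuasistableGraph ends w) (hg : 1 ≤ genus ends w) (S : Finset V)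
    (hS : ∀ v ∈ S, IsExceptional ends w v) (dt : V → ℤ) (hzero : ∀ v ∈ S, dt v = 0)
    (hBI : ∀ W : Finset V, Disjoint W S →
      2 * |canDeg ends w Finset.univ * (∑ v ∈ W, dt v) - (∑ v, dt v) * canDeg ends w (Finset.univ.filter (fun v : V => v ∈ W ∨ (v ∈ S ∧ ∀ e : E, ((ends e).1 = v → (ends e).2 ∈ W) ∧ ((ends e).2 = v → (ends e).1 ∈ W))))|
        ≤ (cut ends (Finset.univ.filter (fun v : V => v ∈ W ∨ (v ∈ S ∧ ∀ e : E, ((ends e).1 = v → (ends e).2 ∈ W) ∧ ((ends e).2 = v → (ends e).1 ∈ W)))) : ℤ) * canDeg ends w Finset.univ) :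
    SatisfiesBI ends w dt := by
  classical
  intro Y
  set W := Y \ S with hW
  set What := Finset.univ.filter (fun v : V => v ∈ W ∨ (v ∈ S ∧ ∀ e : E, ((ends e).1 = v → (ends e).2 ∈ W) ∧ ((ends e).2 = v → (ends e).1 ∈ W))) with hWh
  have h0 := hBI W (sdiff_disjoint)
  have hinv : ∀ g : V → ℤ, (∀ v ∈ S, g v = 0) → ∀ A : Finset V, ∑ v ∈ A, g v = ∑ v ∈ A \ S, g v := fun g hg0 A =>
    (sum_subset sdiff_subset fun v hv hv' => hg0 v (by simpa [hv] using hv')).symm
  have hdiff : What \ S = W := by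
    ext v
    simp only [hWh, hW, mem_sdiff, mem_filter, mem_univ, true_and]
    tauto
  have hs0 : ∀ v ∈ S, 2 * (w v : ℤ) - 2 + (endCount ends univ v : ℤ) = 0 := fun v hv => by
    simpa [canDeg] using canDeg_exceptional (hS v hv)
  have e1 : canDeg ends w Y = canDeg ends w What := by
    rw [canDeg, canDeg, hinv _ hs0 Y, hinv _ hs0 What, hdiff]
  rw [hinv dt hzero Y, ← hW, e1]
  refine le_trans h0 (mul_le_mul_of_nonneg_right ?_ (by rw [canDeg_univ]; omega))
  -- the completion of `W` has the smallest cut among sets agreeing with it off `S`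
  suffices hmin : ∀ n, ∀ X : Finset V, X \ S = W → (What \ X ∪ X \ What).card = n →
      (cut ends What : ℤ) ≤ cut ends X from hmin _ Y rfl rfl
  have hadj : ∀ v ∈ S, ∀ e, ((ends e).1 = v → (ends e).2 ∉ S) ∧ ((ends e).2 = v → (ends e).1 ∉ S) := fun v hv e => by
    constructor <;> intro hev hx
    · exact hZ.2 e (fun heq => (hS v hv).2.1 e (Prod.ext hev (heq ▸ hev))) ⟨hev ▸ hS v hv, hS _ hx⟩
    · exact hZ.2 e (fun heq => (hS v hv).2.1 e (Prod.ext (heq.trans hev) hev)) ⟨hS _ hx, hev ▸ hS v hv⟩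
  intro n
  induction n using Nat.strong_induction_on with
  | _ n ih =>
    intro X hX hn
    rcases eq_or_ne X What with rfl | hne
    · exact le_rfl
    obtain ⟨s, hs⟩ : (What \ X ∪ X \ What).Nonempty := by
      rw [nonempty_iff_ne_empty]
      intro h
      simp only [union_eq_empty, sdiff_eq_empty_iff_subset] at h
      exact hne (subset_antisymm h.2 h.1)
    have hsS : s ∈ S := by
      by_contra hsS
      have h1 : s ∈ X ↔ s ∈ W := by rw [← hX]; simp [hsS]
      have h2 : s ∈ What ↔ s ∈ W := by rw [← hdiff]; simp [hsS]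
      simp only [mem_union, mem_sdiff] at hs
      tauto
    have hsW : s ∉ W := fun h => by simp [hW] at h; exact h.2 hsS
    have hmemW : ∀ x, x ∉ S → (x ∈ X ↔ x ∈ W) := fun x hx => by rw [← hX]; simp [hx]
    rcases mem_union.1 hs with hs | hs
    · -- add `s`
      obtain ⟨hsH, hsX⟩ := mem_sdiff.1 hs
      have hall := ((mem_filter.1 (hWh ▸ hsH)).2.resolve_left hsW).2
      have hlt : (What \ insert s X ∪ insert s X \ What).card < n := by
        rw [← hn]
        refine card_lt_card ((ssubset_iff_of_subset fun x => ?_).2 ⟨s, by simp [hsH, hsX], by simp [hsH]⟩)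
        simp only [mem_union, mem_sdiff, mem_insert]
        rintro (⟨a, b⟩ | ⟨rfl | a, b⟩)
        · exact Or.inl ⟨a, fun h => b (Or.inr h)⟩
        · exact absurd hsH b
        · exact Or.inr ⟨a, b⟩
      refine le_trans (ih _ hlt (insert s X) (by rw [insert_sdiff_of_mem _ hsS, hX]) rfl) ?_
      rw [cut_insert hsX, (hS s hsS).2.2]
      have hsum : (cut ends {s} : ℤ) ≤ ∑ e, ((if (ends e).1 = s ∧ (ends e).2 ∈ X then 1 else 0) + (if (ends e).2 = s ∧ (ends e).1 ∈ X then (1 : ℤ) else 0)) := by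
        rw [cut_eq]
        refine sum_le_sum fun e _ => ?_
        have hsl := (hS s hsS).2.1 e
        have ha := hadj s hsS e
        by_cases a1 : (ends e).1 = s <;> by_cases a2 : (ends e).2 = s
        · exact absurd (Prod.ext a1 a2) hsl
        · simp [ind, a1, a2, (hmemW _ (ha.1 a1)).2 ((hall e).1 a1)]
        · simp [ind, a1, a2, (hmemW _ (ha.2 a2)).2 ((hall e).2 a2)]
        · simp [ind, a1, a2]
      rw [(hS s hsS).2.2] at hsum
      push_cast at hsum ⊢
      linarith
    · -- remove `s`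
      obtain ⟨hsX, hsH⟩ := mem_sdiff.1 hs
      have hlt : (What \ X.erase s ∪ X.erase s \ What).card < n := by
        rw [← hn]
        refine card_lt_card ((ssubset_iff_of_subset fun x => ?_).2 ⟨s, by simp [hsH, hsX], by simp [hsH]⟩)
        simp only [mem_union, mem_sdiff, mem_erase]
        rintro (⟨a, b⟩ | ⟨⟨-, a⟩, b⟩)
        · exact Or.inl ⟨a, fun h => b ⟨fun hh => hsH (hh ▸ a), h⟩⟩
        · exact Or.inr ⟨a, b⟩
      refine le_trans (ih _ hlt (X.erase s) (by rw [erase_sdiff_comm, hX, erase_eq_of_notMem hsW]) rfl) ?_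
      conv_rhs => rw [← insert_erase hsX, cut_insert (notMem_erase s X), (hS s hsS).2.2]
      have hnall : ¬ ∀ e : E, ((ends e).1 = s → (ends e).2 ∈ W) ∧ ((ends e).2 = s → (ends e).1 ∈ W) := fun h =>
        hsH (by rw [hWh]; exact mem_filter.2 ⟨mem_univ _, Or.inr ⟨hsS, h⟩⟩)
      obtain ⟨e, he⟩ := not_forall.1 hnall
      have hlow : ∑ f, ((if (ends f).1 = s ∧ (ends f).2 ∈ X.erase s then 1 else 0) + (if (ends f).2 = s ∧ (ends f).1 ∈ X.erase s then (1 : ℤ) else 0)) < (cut ends {s} : ℤ) := by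
        rw [cut_eq]
        refine sum_lt_sum (fun f _ => ?_) ⟨e, mem_univ e, ?_⟩
        · have hsl := (hS s hsS).2.1 f
          by_cases a1 : (ends f).1 = s <;> by_cases a2 : (ends f).2 = s
          · exact absurd (Prod.ext a1 a2) hsl
          all_goals simp [ind, a1, a2]; try split_ifs <;> norm_num
        · have hsl := (hS s hsS).2.1 e
          have ha := hadj s hsS e
          by_cases a1 : (ends e).1 = s <;> by_cases a2 : (ends e).2 = s
          · exact absurd (Prod.ext a1 a2) hsl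
          · have hx : (ends e).2 ∉ X := fun h => he ⟨fun _ => (hmemW _ (ha.1 a1)).1 h, fun h2 => absurd h2 a2⟩
            simp [ind, a1, a2, hx]
          · have hx : (ends e).1 ∉ X := fun h => he ⟨fun h1 => absurd h1 a1, fun _ => (hmemW _ (ha.2 a2)).1 h⟩
            simp [ind, a1, a2, hx]
          · exact absurd ⟨fun h => absurd h a1, fun h => absurd h a2⟩ he
      rw [(hS s hsS).2.2] at hlow
      push_cast at hlow ⊢
      linarith

end Groth.Agent.LabG36
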