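import Groth.Prelude.Def_W4c1nerontoraddGraph
import Mathlib

/-!
Cycles, forests, coboundaries and connectivity inside edge sets of a finite multigraph.
-/

universe u

namespace Groth.Agent.LabG36

open Finset

set_option linter.unusedSectionVars false

variable {V E : Type u} [Fintype V] [Fintype E] [DecidableEq V] [DecidableEq E]

/-- Coboundary: head minus tail. -/
def dd {R : Type*} [Sub R] (ends : E → V × V) (φ : V → R) (e : E) : R := φ (ends e).2 - φ (ends e).1

variable {ends : E → V × V}

theorem sum_mul_boundary (φ : V → ℤ) (γ : E → ℤ) :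
    ∑ v, φ v * LabGraph.boundary ends γ v = ∑ e, γ e * dd ends φ e := by
  simp only [LabGraph.boundary, mul_sum]
  rw [sum_comm]
  refine sum_congr rfl fun e _ => ?_
  simp [mul_sub, dd, sum_sub_distrib, mul_ite]
  ring

theorem boundary_add (γ δ : E → ℤ) (v : V) :
    LabGraph.boundary ends (γ + δ) v = LabGraph.boundary ends γ v + LabGraph.boundary ends δ v := by
  simp only [LabGraph.boundary, ← sum_add_distrib]
  refine sum_congr rfl fun e _ => ?_
  simp only [Pi.add_apply]; split_ifs <;> ring

theorem boundary_smul (c : ℤ) (γ : E → ℤ) (v : V) :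
    LabGraph.boundary ends (c • γ) v = c * LabGraph.boundary ends γ v := by
  simp only [LabGraph.boundary, mul_sum]
  refine sum_congr rfl fun e _ => ?_
  simp only [Pi.smul_apply, smul_eq_mul]; split_ifs <;> ring

theorem boundary_zero (v : V) : LabGraph.boundary ends (0 : E → ℤ) v = 0 := by
  simp [LabGraph.boundary]

theorem boundary_single (e : E) (c : ℤ) (v : V) :
    LabGraph.boundary ends (Pi.single e c) v =
      (if (ends e).2 = v then c else 0) - (if (ends e).1 = v then c else 0) := by
  rw [LabGraph.boundary, sum_eq_single e]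
  · simp
  · intro f _ hf; simp [hf]
  · simp

/-- `a` and `b` are joined by edges of `A`. -/
def Conn (ends : E → V × V) (A : Finset E) : V → V → Prop :=
  Relation.ReflTransGen fun a b => ∃ e ∈ A, ends e = (a, b) ∨ ends e = (b, a)

theorem Conn.refl {A : Finset E} (a : V) : Conn ends A a a := Relation.ReflTransGen.refl

theorem Conn.trans {A : Finset E} {a b c : V} (h : Conn ends A a b) (h' : Conn ends A b c) : Conn ends A a c :=
  Relation.ReflTransGen.trans h h'

theorem Conn.of_edge {A : Finset E} {e : E} (he : e ∈ A) : Conn ends A (ends e).1 (ends e).2 :=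
  Relation.ReflTransGen.single ⟨e, he, Or.inl rfl⟩

theorem Conn.symm {A : Finset E} {a b : V} (h : Conn ends A a b) : Conn ends A b a := by
  induction h with
  | refl => exact .refl _
  | tail _ hbc ih =>
    obtain ⟨e, he, hh⟩ := hbc
    exact ih.head ⟨e, he, hh.symm⟩

theorem Conn.mono {A B : Finset E} (h : A ⊆ B) {a b : V} (hab : Conn ends A a b) : Conn ends B a b :=
  Relation.ReflTransGen.mono (fun _ _ ⟨e, he, hh⟩ => ⟨e, h he, hh⟩) _ _ hab

theorem Conn.of_edges {A B : Finset E} (h : ∀ e ∈ A, Conn ends B (ends e).1 (ends e).2) {a b : V}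
    (hab : Conn ends A a b) : Conn ends B a b := by
  induction hab with
  | refl => exact .refl _
  | tail _ hbc ih =>
    obtain ⟨e, he, hh⟩ := hbc
    rcases hh with hh | hh
    · have := h e he; rw [hh] at this; exact ih.trans this
    · have := h e he; rw [hh] at this; exact ih.trans this.symm

theorem eq_of_conn {R : Type*} {A : Finset E} {φ : V → R} (h : ∀ e ∈ A, φ (ends e).1 = φ (ends e).2) {a b : V}
    (hab : Conn ends A a b) : φ a = φ b := by
  induction hab with
  | refl => rfl
  | tail _ hbc ih =>
    obtain ⟨e, he, hh⟩ := hbc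
    rcases hh with hh | hh <;> (have := h e he; rw [hh] at this; simp only at this)
    · exact ih.trans this
    · exact ih.trans this.symm

theorem connected_iff : LabGraph.Connected ends ↔ Nonempty V ∧ ∀ a b, Conn ends univ a b := by
  refine and_congr_right fun _ => forall_congr' fun a => forall_congr' fun b => ?_
  exact ⟨Relation.ReflTransGen.mono (fun _ _ ⟨e, he⟩ => ⟨e, mem_univ _, he⟩) _ _,
    Relation.ReflTransGen.mono (fun _ _ ⟨e, _, he⟩ => ⟨e, he⟩) _ _⟩

theorem conn_univ (h : LabGraph.Connected ends) (a b : V) : Conn ends univ a b := (connected_iff.1 h).2 a b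

theorem exists_chain {A : Finset E} {a b : V} (h : Conn ends A a b) :
    ∃ γ : E → ℤ, (∀ e, e ∉ A → γ e = 0) ∧
      ∀ v, LabGraph.boundary ends γ v = (if b = v then 1 else 0) - (if a = v then 1 else 0) := by
  induction h with
  | refl => exact ⟨0, fun _ _ => rfl, fun v => by simp [boundary_zero]⟩
  | @tail b c _ hbc ih =>
    obtain ⟨γ, h1, h2⟩ := ih
    obtain ⟨e, he, hh⟩ := hbc
    refine ⟨γ + Pi.single e (if ends e = (b, c) then 1 else -1), fun f hf => ?_, fun v => ?_⟩
    · have : f ≠ e := fun h => hf (h ▸ he)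
      simp [h1 f hf, this]
    · rw [boundary_add, h2, boundary_single]
      rcases hh with hh | hh
      · simp [hh]
      · by_cases hbc : b = c
        · subst hbc; simp [hh]
        · have : (c, b) ≠ (b, c) := fun h => hbc (congrArg Prod.snd h)
          simp [hh, this]
          split_ifs <;> norm_num

theorem parity (C : Finset E) (γ : E → ℤ) (hC : ∀ e, (γ e : ZMod 2) = if e ∈ C then 1 else 0) (v : V) :
    (LabGraph.endCount ends C v : ZMod 2) = (LabGraph.boundary ends γ v : ZMod 2) := by
  simp only [LabGraph.endCount, LabGraph.boundary, Nat.cast_sum, Int.cast_sum]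
  rw [← Finset.sum_filter_add_sum_filter_not univ (· ∈ C)]
  have h0 : ∑ e ∈ univ.filter (fun e => ¬ e ∈ C), (((if (ends e).2 = v then γ e else 0) -
      (if (ends e).1 = v then γ e else 0) : ℤ) : ZMod 2) = 0 := by
    refine sum_eq_zero fun e he => ?_
    have : (γ e : ZMod 2) = 0 := by rw [hC, if_neg (by simpa using he)]
    split_ifs <;> simp [this]
  rw [h0, add_zero, filter_mem_eq_inter, univ_inter]
  refine sum_congr rfl fun e he => ?_
  have : (γ e : ZMod 2) = 1 := by rw [hC, if_pos he]
  split_ifs <;> simp [this, ZMod.neg_eq_self_mod_two] <;> decide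

/-- A nonempty even edge set contains a circuit. -/
theorem exists_circuit_of_even (C : Finset E) (hne : C.Nonempty)
    (hev : ∀ v, Even (LabGraph.endCount ends C v)) : ∃ C' ⊆ C, LabGraph.IsCircuit ends C' := by
  induction C using Finset.strongInduction with
  | H C ih =>
    by_cases h : ∀ C' : Finset E, C' ⊂ C → C'.Nonempty → ∃ v : V, ¬ Even (LabGraph.endCount ends C' v)
    · exact ⟨C, subset_rfl, hne, hev, h⟩
    · push Not at h
      obtain ⟨C', h1, h2, h3⟩ := h
      obtain ⟨C'', h4, h5⟩ := ih C' h1 h2 h3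
      exact ⟨C'', h4.trans h1.subset, h5⟩

/-- A cycle with an odd coefficient has a circuit among the edges with odd coefficient. -/
theorem exists_circuit_of_odd {γ : E → ℤ} (hγ : ∀ v, LabGraph.boundary ends γ v = 0) {e : E} (he : Odd (γ e)) :
    ∃ C, LabGraph.IsCircuit ends C ∧ ∀ f ∈ C, Odd (γ f) := by
  classical
  let C := univ.filter fun f => Odd (γ f)
  obtain ⟨C', h1, h2⟩ := exists_circuit_of_even (ends := ends) C ⟨e, by simp [C, he]⟩ fun v => by
    rw [← ZMod.natCast_eq_zero_iff_even, parity C γ ?_ v, hγ v, Int.cast_zero]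
    intro f
    by_cases hf : Odd (γ f)
    · rw [if_pos (by simp [C, hf])]
      obtain ⟨k, hk⟩ := hf
      simp [hk, show (2 : ZMod 2) = 0 from by decide]
    · rw [if_neg (by simp [C, hf]), ZMod.intCast_zmod_eq_zero_iff_dvd, Nat.cast_ofNat]
      exact even_iff_two_dvd.1 (Int.not_odd_iff_even.1 hf)
  exact ⟨C', h2, fun f hf => by simpa [C] using h1 hf⟩

/-- A nonzero cycle has a circuit inside its support. -/
theorem exists_circuit_support {γ : E → ℤ} (hγ : ∀ v, LabGraph.boundary ends γ v = 0) {e : E} (he : γ e ≠ 0) :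
    ∃ C, LabGraph.IsCircuit ends C ∧ ∀ f ∈ C, γ f ≠ 0 := by
  induction hn : (γ e).natAbs using Nat.strong_induction_on generalizing γ with
  | _ n ih =>
    by_cases h : ∃ f, Odd (γ f)
    · obtain ⟨f, hf⟩ := h
      obtain ⟨C, h1, h2⟩ := exists_circuit_of_odd hγ hf
      exact ⟨C, h1, fun g hg h0 => by have := h2 g hg; simp [h0] at this⟩
    · push Not at h
      choose δ hδ using fun f => even_iff_exists_two_mul.1 (Int.not_odd_iff_even.1 (h f))
      have hb : ∀ v, LabGraph.boundary ends δ v = 0 := fun v => by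
        have := hγ v
        rw [show γ = (2 : ℤ) • δ from funext fun f => by simp [hδ f], boundary_smul] at this
        omega
      have h0 : δ e ≠ 0 := fun h0 => he (by simp [hδ e, h0])
      have hlt : (δ e).natAbs < n := by
        have := hδ e
        omega
      obtain ⟨C, h1, h2⟩ := ih _ hlt hb h0 rfl
      exact ⟨C, h1, fun g hg => by have := h2 g hg; rw [hδ g]; omega⟩

/-- An edge vector orthogonal to all cycles on `A` is a coboundary on `A`. -/
theorem exists_potential (A : Finset E) (x : E → ℤ)
    (hx : ∀ γ : E → ℤ, (∀ e, e ∉ A → γ e = 0) → (∀ v, LabGraph.boundary ends γ v = 0) → ∑ e, γ e * x e = 0) :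
    ∃ φ : V → ℤ, ∀ e ∈ A, dd ends φ e = x e := by
  classical
  induction A using Finset.induction with
  | empty => exact ⟨0, fun _ h => absurd h (notMem_empty _)⟩
  | @insert e A hne ih =>
    obtain ⟨φ, hφ⟩ := ih fun γ h => hx γ fun f hf => h f (fun hh => hf (mem_insert_of_mem hh))
    by_cases hc : Conn ends A (ends e).2 (ends e).1
    · refine ⟨φ, fun f hf => ?_⟩
      rcases mem_insert.1 hf with rfl | hf
      swap; · exact hφ f hf
      obtain ⟨γ, g1, g2⟩ := exists_chain hc
      have h0 := hx (γ + Pi.single f 1) (fun g hg => by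
          simp only [mem_insert, not_or] at hg; simp [g1 g hg.2, hg.1]) (fun v => by
          rw [boundary_add, g2, boundary_single]; ring)
      have hs : ∑ g, γ g * x g = ∑ g, γ g * dd ends φ g := sum_congr rfl fun g _ => by
        by_cases hg : g ∈ A
        · rw [hφ g hg]
        · simp [g1 g hg]
      simp only [Pi.add_apply, add_mul, sum_add_distrib, hs, ← sum_mul_boundary, g2] at h0
      simp [mul_sub, sum_sub_distrib, Pi.single_apply] at h0
      rw [dd]; omega
    · refine ⟨fun v => φ v + if Conn ends A (ends e).2 v then x e - dd ends φ e else 0, fun f hf => ?_⟩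
      rcases mem_insert.1 hf with rfl | hf
      · simp [dd, hc, Conn.refl]; ring
      · have hiff : Conn ends A (ends e).2 (ends f).1 ↔ Conn ends A (ends e).2 (ends f).2 :=
          ⟨fun h => h.trans (.of_edge hf), fun h => h.trans (Conn.of_edge hf).symm⟩
        have := hφ f hf
        simp only [dd, hiff] at this ⊢
        linarith

/-- `A` contains no circuit. -/
def Acyclic (ends : E → V × V) (A : Finset E) : Prop := ∀ C ⊆ A, ¬ LabGraph.IsCircuit ends C

theorem Acyclic.cycle_eq_zero {A : Finset E} (h : Acyclic ends A) {γ : E → ℤ} (h0 : ∀ e, e ∉ A → γ e = 0)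
    (hγ : ∀ v, LabGraph.boundary ends γ v = 0) : γ = 0 := by
  funext e
  by_contra he
  obtain ⟨C, h1, h2⟩ := exists_circuit_support hγ he
  exact h C (fun f hf => by_contra fun hh => h2 f hf (h0 f hh)) h1

theorem Acyclic.exists_potential {A : Finset E} (h : Acyclic ends A) (x : E → ℤ) :
    ∃ φ : V → ℤ, ∀ e ∈ A, dd ends φ e = x e :=
  Groth.Agent.LabG36.exists_potential A x fun γ h0 hγ => by simp [h.cycle_eq_zero h0 hγ]

theorem sum_endCount (C : Finset E) (S : Finset V) :
    ∑ v ∈ S, LabGraph.endCount ends C v =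
      ∑ e ∈ C, ((if (ends e).1 ∈ S then 1 else 0) + (if (ends e).2 ∈ S then 1 else 0)) := by
  simp only [LabGraph.endCount]
  rw [sum_comm]
  simp [sum_add_distrib]

theorem IsCircuit.conn {C : Finset E} (hC : LabGraph.IsCircuit ends C) {e : E} (he : e ∈ C) :
    Conn ends (C.erase e) (ends e).2 (ends e).1 := by
  classical
  by_contra hc
  let S := univ.filter fun v => Conn ends (C.erase e) (ends e).2 v
  have h : ((∑ v ∈ S, LabGraph.endCount ends C v : ℕ) : ZMod 2) = 0 := by
    push_cast
    exact sum_eq_zero fun v _ => (ZMod.natCast_eq_zero_iff_even).2 (hC.2.1 v)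
  rw [sum_endCount, ← add_sum_erase C _ he] at h
  have key : ((∑ f ∈ C.erase e, ((if (ends f).1 ∈ S then 1 else 0) + (if (ends f).2 ∈ S then 1 else 0)) : ℕ)
      : ZMod 2) = 0 := by
    push_cast
    refine sum_eq_zero fun f hf => ?_
    have hiff : (ends f).1 ∈ S ↔ (ends f).2 ∈ S := by
      simp only [S, mem_filter, mem_univ, true_and]
      exact ⟨fun h => h.trans (.of_edge hf), fun h => h.trans (Conn.of_edge hf).symm⟩
    by_cases h1 : (ends f).1 ∈ S
    · rw [if_pos h1, if_pos (hiff.1 h1)]; decide
    · rw [if_neg h1, if_neg (mt hiff.2 h1)]; decide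
  rw [Nat.cast_add, key, add_zero] at h
  simp [S, hc, Conn.refl] at h

theorem conn_erase_of_circuit {A C : Finset E} (hC : LabGraph.IsCircuit ends C) (hCA : C ⊆ A) {e : E}
    (he : e ∈ C) {a b : V} (h : Conn ends A a b) : Conn ends (A.erase e) a b := by
  refine h.of_edges fun f hf => ?_
  by_cases hfe : f = e
  · subst hfe
    exact ((IsCircuit.conn hC he).mono (erase_subset_erase _ hCA)).symm
  · exact .of_edge (mem_erase.2 ⟨hfe, hf⟩)

/-- An orientation of a circuit through one of its edges. -/
theorem IsCircuit.exists_cycle {C : Finset E} (hC : LabGraph.IsCircuit ends C) {e : E} (he : e ∈ C) :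
    ∃ γ : E → ℤ, (∀ f, f ∉ C → γ f = 0) ∧ (∀ v, LabGraph.boundary ends γ v = 0) ∧ γ e = 1 := by
  obtain ⟨γ, h1, h2⟩ := exists_chain (IsCircuit.conn hC he)
  refine ⟨γ + Pi.single e 1, fun f hf => ?_, fun v => ?_, ?_⟩
  · have : f ≠ e := fun h => hf (h ▸ he)
    simp [h1 f (fun h => hf (mem_of_mem_erase h)), this]
  · rw [boundary_add, h2, boundary_single]; ring
  · simp [h1 e (notMem_erase e C)]

/-- Among connected spanning subsets of `A₀` there is an acyclic one. -/
theorem exists_spanning_acyclic (A₀ : Finset E) (h : ∀ a b, Conn ends A₀ a b) :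
    ∃ T ⊆ A₀, Acyclic ends T ∧ ∀ a b, Conn ends T a b := by
  induction A₀ using Finset.strongInduction with
  | H A ih =>
    by_cases hA : Acyclic ends A
    · exact ⟨A, subset_rfl, hA, h⟩
    · simp only [Acyclic, not_forall, not_not] at hA
      obtain ⟨C, hCA, hC⟩ := hA
      obtain ⟨e, he⟩ := hC.1
      obtain ⟨T, h1, h2⟩ := ih _ (erase_ssubset (hCA he)) fun a b => conn_erase_of_circuit hC hCA he (h a b)
      exact ⟨T, h1.trans (erase_subset _ _), h2⟩

end Groth.Agent.LabG36
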