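import Groth.Agent.LabG36.Coprime

/-!
The total blow-up graph: multidegree at old and new vertices.
-/

universe u

namespace Groth.Agent.LabG36

open Finset LabGraph

set_option linter.unusedSectionVars false

variable {V E : Type u} [Fintype V] [Fintype E] [DecidableEq V] [DecidableEq E] {ends : E → V × V} {l : E → ℕ}

/-- Successive difference along the path replacing `e`. -/
def D1 (ends : E → V × V) (l : E → ℕ) (ψ : BlVert V E l → ℤ) (e : E) (k : ℕ) : ℤ :=
  ψ (pathVert ends l e (k + 1)) - ψ (pathVert ends l e k)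

theorem pathVert_eq_inr {e e' : E} {k : ℕ} {i : Fin (l e - 1)} (h : pathVert ends l e' k = Sum.inr ⟨e, i⟩) :
    e' = e ∧ k = i.val + 1 := by
  unfold pathVert at h
  split_ifs at h with h0 h1
  have h2 := Sum.inr.inj h
  obtain ⟨rfl, h3⟩ := Sigma.mk.injEq _ _ _ _ |>.mp h2
  refine ⟨rfl, ?_⟩
  have h4 := congrArg Fin.val (eq_of_heq h3)
  simp only at h4
  omega

theorem pathVert_inr (e : E) (i : Fin (l e - 1)) : pathVert ends l e (i.val + 1) = Sum.inr ⟨e, i⟩ := by
  have hlt : i.val + 1 < l e := by omega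
  simp [pathVert, hlt]

theorem pathVert_zero (e : E) : pathVert ends l e 0 = Sum.inl (ends e).1 := by simp [pathVert]

theorem pathVert_last (hl : ∀ e, 0 < l e) (e : E) : pathVert ends l e (l e) = Sum.inl (ends e).2 := by
  simp [pathVert, (hl e).ne']

theorem pathVert_eq_inl {e : E} {k : ℕ} {v : V} (hk : k ≤ l e) :
    pathVert ends l e k = Sum.inl v ↔ (k = 0 ∧ (ends e).1 = v) ∨ (k ≠ 0 ∧ k = l e ∧ (ends e).2 = v) := by
  unfold pathVert
  split_ifs with h0 h1
  · simp [h0]
  · simp; omega
  · have : k = l e := by omega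
    simp [h0, this, this ▸ h0]

theorem mdeg_blow (ψ : BlVert V E l → ℤ) (w : BlVert V E l) :
    mdeg (blEnds ends l) (fun _ => 1) ψ w =
      ∑ e, ∑ k : Fin (l e), ((if pathVert ends l e k.val = w then D1 ends l ψ e k.val else 0) -
        (if pathVert ends l e (k.val + 1) = w then D1 ends l ψ e k.val else 0)) := by
  rw [mdeg, Fintype.sum_sigma]
  refine sum_congr rfl fun e _ => sum_congr rfl fun k _ => ?_
  simp only [blEnds, Nat.cast_one, Int.ediv_one, D1]
  split_ifs <;> ring

theorem mdeg_inl (hl : ∀ e, 0 < l e) (ψ : BlVert V E l → ℤ) (v : V) :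
    mdeg (blEnds ends l) (fun _ => 1) ψ (Sum.inl v) =
      ∑ e, ((if (ends e).1 = v then D1 ends l ψ e 0 else 0) -
        (if (ends e).2 = v then D1 ends l ψ e (l e - 1) else 0)) := by
  rw [mdeg_blow]
  refine sum_congr rfl fun e _ => ?_
  rw [sum_sub_distrib]
  congr 1
  · rw [sum_eq_single (⟨0, hl e⟩ : Fin (l e))]
    · simp [pathVert_zero]
    · intro k _ hk
      rw [if_neg]
      rw [pathVert_eq_inl k.isLt.le]
      have : k.val ≠ 0 := fun h => hk (Fin.ext h)
      omega
    · simp
  · have hlast : l e - 1 < l e := by have := hl e; omega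
    rw [sum_eq_single (⟨l e - 1, hlast⟩ : Fin (l e))]
    · simp only [show l e - 1 + 1 = l e from by omega, pathVert_last hl]
      simp
    · intro k _ hk
      rw [if_neg]
      rw [pathVert_eq_inl k.isLt]
      have : k.val ≠ l e - 1 := fun h => hk (Fin.ext h)
      omega
    · simp

theorem mdeg_inr (ψ : BlVert V E l → ℤ) (e : E) (i : Fin (l e - 1)) :
    mdeg (blEnds ends l) (fun _ => 1) ψ (Sum.inr ⟨e, i⟩) =
      D1 ends l ψ e (i.val + 1) - D1 ends l ψ e i.val := by
  rw [mdeg_blow, sum_eq_single e]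
  · rw [sum_sub_distrib, sum_eq_single (⟨i.val + 1, by omega⟩ : Fin (l e)),
      sum_eq_single (⟨i.val, by omega⟩ : Fin (l e))]
    · simp [pathVert_inr]
    · intro k _ hk
      rw [if_neg]
      intro h
      exact hk (Fin.ext (by have := (pathVert_eq_inr h).2; simp at this ⊢; omega))
    · simp
    · intro k _ hk
      rw [if_neg]
      intro h
      exact hk (Fin.ext (pathVert_eq_inr h).2)
    · simp
  · intro e' _ hne
    refine sum_eq_zero fun k _ => ?_
    rw [if_neg (fun h => hne (pathVert_eq_inr h).1), if_neg (fun h => hne (pathVert_eq_inr h).1), sub_zero]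
  · simp

theorem sum_D1 (hl : ∀ e, 0 < l e) (ψ : BlVert V E l → ℤ) (e : E) :
    ∑ k ∈ range (l e), D1 ends l ψ e k = dd ends (fun v => ψ (Sum.inl v)) e := by
  unfold D1
  rw [Finset.sum_range_sub (fun k => ψ (pathVert ends l e k)), pathVert_zero, pathVert_last hl]
  rfl

theorem exists_cartier_of_blow (hl : ∀ e, 0 < l e) (α : V → ℤ) (ψ : BlVert V E l → ℤ)
    (hψ : ∀ w, mdeg (blEnds ends l) (fun _ => 1) ψ w = Sum.elim α (fun _ => (0 : ℤ)) w) :
    ∃ φ : V → ℤ, IsCartier ends l φ ∧ ∀ v, mdeg ends l φ v = α v := by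
  have hlin : ∀ e k, k < l e → D1 ends l ψ e k = D1 ends l ψ e 0 := by
    intro e k
    induction k with
    | zero => intro _; rfl
    | succ k ih =>
      intro hk
      have := hψ (Sum.inr ⟨e, ⟨k, by omega⟩⟩)
      rw [mdeg_inr] at this
      simp at this
      have := ih (by omega)
      linarith
  have hd : ∀ e, dd ends (fun v => ψ (Sum.inl v)) e = (l e : ℤ) * D1 ends l ψ e 0 := fun e => by
    rw [← sum_D1 hl, sum_congr rfl fun k hk => hlin e k (mem_range.1 hk)]; simp
  refine ⟨fun v => ψ (Sum.inl v), fun e => ⟨-D1 ends l ψ e 0, by have := hd e; simp only [dd] at this; linarith⟩, fun v => ?_⟩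
  have := hψ (Sum.inl v)
  rw [mdeg_inl hl] at this
  simp only [Sum.elim_inl] at this
  rw [← this, mdeg]
  refine sum_congr rfl fun e _ => ?_
  have h1 := hd e
  simp only [dd] at h1
  have h0 : (l e : ℤ) ≠ 0 := by have := hl e; omega
  rw [hlin e (l e - 1) (by have := hl e; omega), h1,
    show ψ (Sum.inl (ends e).1) - ψ (Sum.inl (ends e).2) = (l e : ℤ) * -D1 ends l ψ e 0 by linarith,
    Int.mul_ediv_cancel_left _ h0, Int.mul_ediv_cancel_left _ h0]
  split_ifs <;> ring

theorem blow_surjective_iff (hl : ∀ e, 0 < l e) :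
    (∀ β : BlVert V E l → ℤ, ∃ (ψ : BlVert V E l → ℤ) (α : V → ℤ),
        ∀ w, mdeg (blEnds ends l) (fun _ => 1) ψ w + β w = Sum.elim α (fun _ => (0 : ℤ)) w) ↔
      IsCircuitCoprime ends l := by
  classical
  rw [coprime_iff hl]
  constructor
  · intro h x
    obtain ⟨ψ, α, hψ⟩ := h (Sum.elim (fun _ => 0) (fun p => if p.2.val + 2 = l p.1 then -x p.1 else 0))
    refine ⟨fun v => ψ (Sum.inl v), fun e => ?_⟩
    obtain ⟨m, hm⟩ : ∃ m, l e = m + 1 := ⟨l e - 1, by have := hl e; omega⟩
    rcases m with _ | m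
    · simp [hm]
    have hstep : ∀ i : ℕ, i < m + 1 → D1 ends l ψ e (i + 1) - D1 ends l ψ e i
        + (if i + 2 = l e then -x e else 0) = 0 := fun i hi => by
      have := hψ (Sum.inr ⟨e, ⟨i, by omega⟩⟩)
      rw [mdeg_inr] at this
      simpa using this
    have hlin : ∀ k, k ≤ m → D1 ends l ψ e k = D1 ends l ψ e 0 := by
      intro k
      induction k with
      | zero => intro _; rfl
      | succ k ih =>
        intro hk
        have := hstep k (by omega)
        rw [if_neg (by omega)] at this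
        have := ih (by omega)
        linarith
    have hlast := hstep m (by omega)
    rw [if_pos (by omega), hlin m le_rfl] at hlast
    have hsum := sum_D1 (ends := ends) hl ψ e
    rw [hm, sum_range_succ, sum_congr rfl fun k hk => hlin k (by have := mem_range.1 hk; omega)] at hsum
    simp only [sum_const, card_range, nsmul_eq_mul] at hsum
    refine ⟨D1 ends l ψ e 0, ?_⟩
    rw [hm]
    push_cast at hsum ⊢
    linarith
  · intro h β
    let b : E → ℕ → ℤ := fun e i => if h : i < l e - 1 then β (Sum.inr ⟨e, ⟨i, h⟩⟩) else 0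
    let S : E → ℤ := fun e => ∑ k ∈ range (l e), ∑ i ∈ range k, b e i
    obtain ⟨φ, hφ⟩ := h fun e => -S e
    choose c hc using hφ
    let D : E → ℕ → ℤ := fun e k => c e - ∑ i ∈ range k, b e i
    let ψ : BlVert V E l → ℤ :=
      Sum.elim φ fun p => φ (ends p.1).1 + ∑ j ∈ range (p.2.val + 1), D p.1 j
    have hpv : ∀ e k, k ≤ l e → ψ (pathVert ends l e k) = φ (ends e).1 + ∑ j ∈ range k, D e j := by
      intro e k hk
      rcases Nat.eq_zero_or_pos k with rfl | hk0
      · simp [pathVert_zero, ψ]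
      rcases Nat.lt_or_eq_of_le hk with hk' | rfl
      · obtain ⟨i, rfl⟩ : ∃ i, k = i + 1 := ⟨k - 1, by omega⟩
        rw [pathVert_inr e ⟨i, by omega⟩]
        simp [ψ]
      · rw [pathVert_last hl]
        have := hc e
        simp only [dd] at this
        simp only [ψ, Sum.elim_inl, D, sum_sub_distrib, sum_const, card_range, nsmul_eq_mul, S] at this ⊢
        linarith
    have hD : ∀ e k, k < l e → D1 ends l ψ e k = D e k := fun e k hk => by
      rw [D1, hpv e (k + 1) hk, hpv e k hk.le, sum_range_succ]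
      ring
    refine ⟨ψ, fun v => mdeg (blEnds ends l) (fun _ => 1) ψ (Sum.inl v) + β (Sum.inl v), ?_⟩
    rintro (v | ⟨e, i⟩)
    · simp
    · rw [mdeg_inr, hD e _ (by omega), hD e _ (by omega)]
      simp only [D, sum_range_succ, Sum.elim_inr, b, dif_pos i.isLt]
      ring

end Groth.Agent.LabG36
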