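import Groth.Agent.LabG36.Mult

/-!
Contraction of a connecting chain of multiplicity `m` with diagonal `-2`.
-/

universe u

namespace Groth.Agent.LabG36

open Finset LabGraph

set_option linter.unusedSectionVars false

variable {V E : Type u} [Fintype V] [Fintype E] [DecidableEq V] [DecidableEq E]

/-- The hypotheses on the chain. -/
structure Chain (ends : E → V × V) (β : V → ℤ) {m : ℕ} (f : Fin (m + 1) → V) (e : Fin m → E) : Prop where
  mult : IsMultFn ends β
  chain : IsChain ends f e
  conn : ∀ i, IsConnecting ends (e i)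
  val : ∀ i, β (f i) = m
  diag : ∀ i, mfMatrix ends β (f i) (f i) = -2

variable {ends : E → V × V} {β : V → ℤ} {m : ℕ} {f : Fin (m + 1) → V} {e : Fin m → E}

/-- The chain vertex of index `min j m`. -/
def vtx (f : Fin (m + 1) → V) (j : ℕ) : V := f ⟨min j m, by omega⟩

theorem vtx_val (f : Fin (m + 1) → V) (i : Fin (m + 1)) : vtx f i.val = f i :=
  congrArg f (Fin.ext (Nat.min_eq_left (Nat.lt_succ_iff.1 i.isLt)))

theorem vtx_zero (f : Fin (m + 1) → V) : vtx f 0 = f 0 := congrArg f (Fin.ext (by simp))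

theorem vtx_inj (hf : Function.Injective f) {i j : ℕ} (hi : i ≤ m) (hj : j ≤ m) (h : vtx f i = vtx f j) : i = j := by
  have := congrArg Fin.val (hf h)
  simp only at this
  omega

namespace Chain

theorem pos (h : Chain ends β f e) : 0 < m := by
  have := (h.mult (f 0)).1
  rw [h.val] at this
  omega

theorem inj (h : Chain ends β f e) : Function.Injective f := h.chain.1

theorem beta_vtx (h : Chain ends β f e) (j : ℕ) : β (vtx f j) = m := h.val _

theorem diag_vtx (h : Chain ends β f e) (j : ℕ) : mfMatrix ends β (vtx f j) (vtx f j) = -2 := h.diag _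

theorem edge (h : Chain ends β f e) {j : ℕ} (hj : j < m) :
    ends (e ⟨j, hj⟩) = (vtx f j, vtx f (j + 1)) ∨ ends (e ⟨j, hj⟩) = (vtx f (j + 1), vtx f j) := by
  have h1 : vtx f j = f (⟨j, hj⟩ : Fin m).castSucc := (vtx_val f (⟨j, hj⟩ : Fin m).castSucc)
  have h2 : vtx f (j + 1) = f (⟨j, hj⟩ : Fin m).succ := (vtx_val f (⟨j, hj⟩ : Fin m).succ)
  rw [h1, h2]
  exact h.chain.2.2 _

theorem one_le_mult (h : Chain ends β f e) {j : ℕ} (hj : j < m) : 1 ≤ edgeMult ends (vtx f j) (vtx f (j + 1)) :=
  card_pos.2 ⟨e ⟨j, hj⟩, mem_filter.2 ⟨mem_univ _, h.edge hj⟩⟩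

/-- The row of an interior chain vertex. -/
theorem row (h : Chain ends β f e) {j : ℕ} (h0 : 0 < j) (hj : j < m) (w : V) :
    mfMatrix ends β (vtx f j) w = (if w = vtx f (j - 1) then 1 else 0) + (if w = vtx f j then -2 else 0)
      + (if w = vtx f (j + 1) then 1 else 0) := by
  have hp : vtx f (j - 1) ≠ vtx f j := fun hh => by have := vtx_inj h.inj (by omega) (by omega) hh; omega
  have hn : vtx f (j + 1) ≠ vtx f j := fun hh => by have := vtx_inj h.inj (by omega) (by omega) hh; omega
  have hpn : vtx f (j + 1) ≠ vtx f (j - 1) := fun hh => by have := vtx_inj h.inj (by omega) (by omega) hh; omega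
  by_cases hw : w = vtx f j
  · subst hw
    simp [h.diag_vtx, hp.symm, hn.symm]
  set T : V → ℤ := fun w => β w * (edgeMult ends (vtx f j) w : ℤ) with hT
  have hS : ∑ w ∈ univ.erase (vtx f j), T w = 2 * (m : ℤ) := by
    have := mfMatrix_diag h.mult (vtx f j)
    rw [h.diag_vtx, h.beta_vtx] at this
    simp only [hT]
    linarith
  have m1 : 1 ≤ edgeMult ends (vtx f j) (vtx f (j - 1)) := by
    rw [edgeMult_comm]
    have := h.one_le_mult (j := j - 1) (by omega)
    rwa [Nat.sub_add_cancel h0] at this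
  have m2 : 1 ≤ edgeMult ends (vtx f j) (vtx f (j + 1)) := h.one_le_mult hj
  have b1 : (m : ℤ) ≤ T (vtx f (j - 1)) := by
    simp only [hT, h.beta_vtx]
    exact le_mul_of_one_le_right (by positivity) (by exact_mod_cast m1)
  have b2 : (m : ℤ) ≤ T (vtx f (j + 1)) := by
    simp only [hT, h.beta_vtx]
    exact le_mul_of_one_le_right (by positivity) (by exact_mod_cast m2)
  have hnn : ∀ x, 0 ≤ T x := fun x => mul_nonneg (h.mult x).1.le (by positivity)
  rw [← add_sum_erase _ _ (mem_erase.2 ⟨hp, mem_univ _⟩),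
    ← add_sum_erase _ _ (mem_erase.2 ⟨hpn, mem_erase.2 ⟨hn, mem_univ _⟩⟩)] at hS
  have hrest := sum_nonneg (fun x (_ : x ∈ ((univ.erase (vtx f j)).erase (vtx f (j - 1))).erase (vtx f (j + 1))) => hnn x)
  have hm : (0 : ℤ) < m := by exact_mod_cast h.pos
  rw [mfMatrix_off (Ne.symm hw)]
  by_cases hw1 : w = vtx f (j - 1)
  · subst hw1
    have : T (vtx f (j - 1)) = m := by linarith
    simp only [hT, h.beta_vtx] at this
    rw [mul_right_eq_self₀] at this
    rcases this with this | this
    · simp [hp, hpn.symm, this]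
    · omega
  by_cases hw2 : w = vtx f (j + 1)
  · subst hw2
    have : T (vtx f (j + 1)) = m := by linarith
    simp only [hT, h.beta_vtx] at this
    rw [mul_right_eq_self₀] at this
    rcases this with this | this
    · simp [hn, hpn, this]
    · omega
  have hz : T w = 0 := by
    have := single_le_sum (fun x (_ : x ∈ ((univ.erase (vtx f j)).erase (vtx f (j - 1))).erase (vtx f (j + 1))) => hnn x)
      (mem_erase.2 ⟨hw2, mem_erase.2 ⟨hw1, mem_erase.2 ⟨hw, mem_univ _⟩⟩⟩)
    have := hnn w
    linarith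
  simp only [hT, mul_eq_zero, (h.mult w).1.ne', false_or] at hz
  simp [hw, hw1, hw2, hz]

/-- The side of the last connecting edge containing the end of the chain. -/
theorem exists_side (h : Chain ends β f e) :
    ∃ P : Finset V, vtx f m ∈ P ∧ (∀ j, j < m → vtx f j ∉ P) ∧
      ∀ v w, v ∉ P → w ∈ P → (edgeMult ends v w : ℤ) = if v = vtx f (m - 1) ∧ w = vtx f m then 1 else 0 := by
  classical
  have hm := h.pos
  have hlt : m - 1 < m := by omega
  obtain ⟨S, hS⟩ := h.conn ⟨m - 1, hlt⟩
  let P := if vtx f m ∈ S then S else Sᶜ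
  have hP : ∀ e' : E, ((ends e').1 ∈ P ↔ (ends e').2 ∉ P) ↔ e' = e ⟨m - 1, hlt⟩ := fun e' => by
    rw [← hS e']
    by_cases hc : vtx f m ∈ S <;> simp [P, hc] <;> tauto
  have hmP : vtx f m ∈ P := by by_cases hc : vtx f m ∈ S <;> simp [P, hc]
  have hed := h.edge hlt
  rw [Nat.sub_add_cancel hm] at hed
  have hpred : vtx f (m - 1) ∉ P := by
    have := (hP _).2 rfl
    rcases hed with hh | hh <;> rw [hh] at this <;> simp only at this <;> tauto
  have hlow : ∀ k, k < m → vtx f (m - 1 - k) ∉ P := by
    intro k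
    induction k with
    | zero => intro _; exact hpred
    | succ k ih =>
      intro hk
      have h1 := ih (by omega)
      have hlt' : m - 1 - (k + 1) < m := by omega
      have hne : e ⟨m - 1 - (k + 1), hlt'⟩ ≠ e ⟨m - 1, hlt⟩ := fun hh => by
        have := congrArg Fin.val (h.chain.2.1 hh); simp at this; omega
      have hns := (not_congr (hP _)).2 hne
      have hed' := h.edge hlt'
      rw [show m - 1 - (k + 1) + 1 = m - 1 - k by omega] at hed'
      rcases hed' with hh | hh <;> rw [hh] at hns <;> simp only at hns <;> tauto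
  have hothers : ∀ j, j < m → vtx f j ∉ P := fun j hj => by
    have := hlow (m - 1 - j) (by omega)
    rwa [show m - 1 - (m - 1 - j) = j by omega] at this
  refine ⟨P, hmP, hothers, fun v w hv hw => ?_⟩
  have hone : ∀ e', (ends e' = (v, w) ∨ ends e' = (w, v)) ↔
      e' = e ⟨m - 1, hlt⟩ ∧ v = vtx f (m - 1) ∧ w = vtx f m := by
    intro e'
    constructor
    · intro he'
      have : e' = e ⟨m - 1, hlt⟩ := (hP e').1 (by rcases he' with hh | hh <;> rw [hh] <;> simp [hv, hw])
      subst this
      refine ⟨rfl, ?_⟩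
      rcases hed with hh | hh <;> rcases he' with hh' | hh' <;> rw [hh] at hh' <;>
        simp only [Prod.mk.injEq] at hh'
      · exact ⟨hh'.1.symm, hh'.2.symm⟩
      · exact absurd (hh'.1 ▸ hw) hpred
      · exact absurd (hh'.2 ▸ hw) hpred
      · exact ⟨hh'.2.symm, hh'.1.symm⟩
    · rintro ⟨rfl, rfl, rfl⟩
      exact hed
  rw [edgeMult]
  split_ifs with hc
  · have : (univ.filter fun e' => ends e' = (v, w) ∨ ends e' = (w, v)) = {e ⟨m - 1, hlt⟩} := by
      ext e'; simp only [mem_filter, mem_univ, true_and, mem_singleton, hone]; simp [hc]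
    rw [this]; simp
  · rw [filter_false_of_mem fun e' _ he' => hc ((hone e').1 he').2]; simp

theorem telescope (G : ℕ → ℤ) (n : ℕ) :
    ∑ j ∈ range (n + 1), (j : ℤ) * (G (j - 1) - 2 * G j + G (j + 1)) =
      G 0 - (n + 1) * G n + n * G (n + 1) := by
  induction n with
  | zero => simp
  | succ n ih =>
    rw [sum_range_succ, ih]
    simp only [Nat.add_sub_cancel]
    push_cast
    ring

/-- A vector with image `δ_{v₀} - δ_{v_m}` and slope one along the chain. -/
theorem exists_z (h : Chain ends β f e) :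
    ∃ z : V → ℤ, (∀ j, j ≤ m → z (vtx f j) = j) ∧
      Matrix.mulVecLin (mfMatrix ends β) z = Pi.single (vtx f 0) 1 - Pi.single (vtx f m) 1 := by
  classical
  obtain ⟨n, hn⟩ : ∃ n, m = n + 1 := ⟨m - 1, by have := h.pos; omega⟩
  obtain ⟨P, hmP, hlow, hcross⟩ := h.exists_side
  refine ⟨fun v => (if v ∈ P then β v else 0) + ∑ j ∈ range m, if v = vtx f j then (j : ℤ) else 0, fun j hj => ?_, ?_⟩
  · rcases Nat.lt_or_eq_of_le hj with hlt | rfl
    · dsimp only
      rw [if_neg (hlow j hlt), sum_eq_single j (fun k hk hne => if_neg fun hh =>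
        hne (vtx_inj h.inj (mem_range.1 hk).le hj hh.symm)) (fun hh => absurd (mem_range.2 hlt) hh)]
      simp
    · dsimp only
      rw [if_pos hmP, h.beta_vtx, sum_eq_zero, add_zero]
      intro k hk
      rw [if_neg]
      intro hh
      have := vtx_inj h.inj le_rfl (mem_range.1 hk).le hh
      have := mem_range.1 hk
      omega
  funext v
  rw [mulVec_apply']
  simp only [mul_add, sum_add_distrib, mul_sum]
  have e1 : ∑ w, mfMatrix ends β v w * (if w ∈ P then β w else 0) =
      (m : ℤ) * ((if v = vtx f (m - 1) then 1 else 0) - if v = vtx f m then 1 else 0) := by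
    simp only [mul_ite, mul_zero, sum_ite_mem, univ_inter]
    have hm1 : vtx f (m - 1) ∉ P := hlow _ (by omega)
    by_cases hv : v ∈ P
    · have hv1 : v ≠ vtx f (m - 1) := fun hh => hm1 (hh ▸ hv)
      have := mfMatrix_mul_beta h.mult v
      rw [← sum_add_sum_compl P] at this
      rw [eq_neg_of_add_eq_zero_left this, if_neg hv1]
      have : ∀ w ∈ Pᶜ, mfMatrix ends β v w * β w = if w = vtx f (m - 1) then (if v = vtx f m then (m : ℤ) else 0) else 0 := fun w hw => by
        rw [mem_compl] at hw
        rw [mfMatrix_off (fun hh : v = w => hw (hh ▸ hv)), edgeMult_comm, hcross w v hw hv]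
        split_ifs with a b c d <;> simp_all [h.beta_vtx]
      rw [sum_congr rfl this, sum_ite_eq', if_pos (mem_compl.2 hm1)]
      split_ifs <;> simp
    · have hv1 : v ≠ vtx f m := fun hh => hv (hh ▸ hmP)
      have : ∀ w ∈ P, mfMatrix ends β v w * β w = if w = vtx f m then (if v = vtx f (m - 1) then (m : ℤ) else 0) else 0 := fun w hw => by
        rw [mfMatrix_off (fun hh : v = w => hv (hh ▸ hw)), hcross v w hv hw]
        split_ifs with a b c d <;> simp_all [h.beta_vtx]
      rw [sum_congr rfl this, sum_ite_eq', if_pos hmP, if_neg hv1]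
      split_ifs <;> simp
  have e2 : ∑ w, ∑ j ∈ range m, mfMatrix ends β v w * (if w = vtx f j then (j : ℤ) else 0) =
      (if v = vtx f 0 then 1 else 0) - (m : ℤ) * (if v = vtx f (m - 1) then 1 else 0) + ((m : ℤ) - 1) * (if v = vtx f m then 1 else 0) := by
    let G : ℕ → ℤ := fun j => if v = vtx f j then 1 else 0
    rw [sum_comm]
    have : ∀ j ∈ range m, ∑ w, mfMatrix ends β v w * (if w = vtx f j then (j : ℤ) else 0)
        = (j : ℤ) * (G (j - 1) - 2 * G j + G (j + 1)) := fun j hj => by
      simp only [mul_ite, mul_zero, sum_ite_eq', mem_univ, if_true]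
      rcases Nat.eq_zero_or_pos j with rfl | hj0
      · simp
      · rw [mfMatrix_symm, h.row hj0 (mem_range.1 hj)]
        simp only [G]
        split_ifs <;> ring
    rw [sum_congr rfl this, show range m = range (n + 1) from congrArg range hn, telescope]
    simp only [G, show n + 1 = m from hn.symm, show n = m - 1 by omega]
    rw [show ((m - 1 : ℕ) : ℤ) = (m : ℤ) - 1 by omega, show m - 1 + 1 = m by omega]
    ring
  rw [e1, e2]
  simp only [Pi.sub_apply, Pi.single_apply]
  ring

theorem beta_D (h : Chain ends β f e) : ∀ d ∈ univ.image e, β (ends d).1 = β (ends d).2 := by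
  intro d hd
  obtain ⟨i, -, rfl⟩ := mem_image.1 hd
  rcases h.chain.2.2 i with hh | hh <;> simp [hh, h.val]

theorem mk_eq_iff (h : Chain ends β f e) (v w : V) :
    DualGr.ctrMk ends (univ.image e) v = DualGr.ctrMk ends (univ.image e) w ↔
      v = w ∨ ((∃ i, f i = v) ∧ ∃ i, f i = w) := by
  constructor
  · intro hh
    have := Quotient.exact hh
    clear hh
    induction this with
    | rel a b hab =>
      obtain ⟨d, hd, hd'⟩ := hab
      obtain ⟨i, -, rfl⟩ := mem_image.1 hd
      rcases h.chain.2.2 i with hh | hh <;> rw [hh] at hd' <;> simp only [Prod.mk.injEq] at hd' <;>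
        exact Or.inr ⟨⟨_, hd'.1⟩, ⟨_, hd'.2⟩⟩
    | refl a => exact Or.inl rfl
    | symm a b _ ih => rcases ih with rfl | ⟨h1, h2⟩; exacts [Or.inl rfl, Or.inr ⟨h2, h1⟩]
    | trans a b c _ _ i1 i2 =>
      rcases i1 with rfl | ⟨h1, h2⟩
      · exact i2
      · rcases i2 with rfl | ⟨h3, h4⟩
        · exact Or.inr ⟨h1, h2⟩
        · exact Or.inr ⟨h1, h4⟩
  · have key : ∀ i, DualGr.ctrMk ends (univ.image e) (f i) = DualGr.ctrMk ends (univ.image e) (f 0) := by
      intro i
      induction i using Fin.induction with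
      | zero => rfl
      | succ i ih =>
        rw [← ih]
        have := DualGr.ctrMk_fst_eq_ctrMk_snd ends (univ.image e) (mem_image_of_mem e (mem_univ i))
        rcases h.chain.2.2 i with hh | hh <;> rw [hh] at this
        · exact this.symm
        · exact this
    rintro (rfl | ⟨⟨i, rfl⟩, ⟨j, rfl⟩⟩)
    · rfl
    · rw [key i, key j]

theorem liftAt_head (h : Chain ends β f e) (x : DualGr.CtrVert ends (univ.image e) → ℤ) :
    liftAt ends (univ.image e) (f 0) x (f 0) = x (DualGr.ctrMk ends (univ.image e) (f 0)) := by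
  simp [liftAt]

theorem liftAt_chain (h : Chain ends β f e) (x : DualGr.CtrVert ends (univ.image e) → ℤ) {i : Fin (m + 1)}
    (hi : i ≠ 0) : liftAt ends (univ.image e) (f 0) x (f i) = 0 := by
  simp [liftAt, (h.mk_eq_iff (f i) (f 0)).2 (Or.inr ⟨⟨i, rfl⟩, ⟨0, rfl⟩⟩), h.inj.ne hi]

theorem liftAt_out (h : Chain ends β f e) (x : DualGr.CtrVert ends (univ.image e) → ℤ) {v : V}
    (hv : ∀ i, f i ≠ v) : liftAt ends (univ.image e) (f 0) x v = x (DualGr.ctrMk ends (univ.image e) v) := by
  rw [liftAt, if_neg]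
  rintro ⟨h1, h2⟩
  rcases (h.mk_eq_iff v (f 0)).1 h1 with hh | ⟨⟨i, hi⟩, -⟩
  · exact h2 hh
  · exact hv i hi

theorem push_out (h : Chain ends β f e) (g : V → ℤ) {v : V} (hv : ∀ i, f i ≠ v) :
    DualGr.pushV ends (univ.image e) g (DualGr.ctrMk ends (univ.image e) v) = g v := by
  rw [pushV_apply, sum_eq_single v]
  · intro w hw hne
    rw [mem_fib] at hw
    rcases (h.mk_eq_iff w v).1 hw with hh | ⟨-, ⟨i, hi⟩⟩
    · exact absurd hh hne
    · exact absurd hi (hv i)
  · intro hh; exact absurd (mem_fib.2 rfl) hh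

theorem push_chain (h : Chain ends β f e) (g : V → ℤ) :
    DualGr.pushV ends (univ.image e) g (DualGr.ctrMk ends (univ.image e) (f 0)) = ∑ i, g (f i) := by
  classical
  rw [pushV_apply, ← sum_image (f := g) (s := univ) (fun a _ b _ hab => h.inj hab)]
  refine sum_congr ?_ fun _ _ => rfl
  ext w
  rw [mem_fib, h.mk_eq_iff, mem_image]
  constructor
  · rintro (rfl | ⟨⟨i, hi⟩, -⟩)
    exacts [⟨0, mem_univ _, rfl⟩, ⟨i, mem_univ _, hi⟩]
  · rintro ⟨i, -, hi⟩; exact Or.inr ⟨⟨i, hi⟩, ⟨0, rfl⟩⟩

theorem push_lift (h : Chain ends β f e) (x : DualGr.CtrVert ends (univ.image e) → ℤ) :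
    DualGr.pushV ends (univ.image e) (liftAt ends (univ.image e) (f 0) x) = x := by
  funext c
  obtain ⟨v, rfl⟩ := DualGr.ctrMk_surjective ends (univ.image e) c
  by_cases hv : ∀ i, f i ≠ v
  · rw [h.push_out _ hv, h.liftAt_out x hv]
  · push Not at hv
    obtain ⟨i, rfl⟩ := hv
    rw [(h.mk_eq_iff (f i) (f 0)).2 (Or.inr ⟨⟨i, rfl⟩, ⟨0, rfl⟩⟩), h.push_chain,
      sum_eq_single 0 (fun j _ hj => h.liftAt_chain x hj) (by simp), h.liftAt_head]

theorem lift_push (h : Chain ends β f e) {g : V → ℤ} (hg : ∀ i, i ≠ 0 → g (f i) = 0) :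
    liftAt ends (univ.image e) (f 0) (DualGr.pushV ends (univ.image e) g) = g := by
  funext v
  by_cases hv : ∀ i, f i ≠ v
  · rw [h.liftAt_out _ hv, h.push_out _ hv]
  · push Not at hv
    obtain ⟨i, rfl⟩ := hv
    by_cases hi : i = 0
    · subst hi
      rw [h.liftAt_head, h.push_chain, sum_eq_single 0 (fun j _ hj => hg j hj) (by simp)]
    · rw [h.liftAt_chain _ hi, hg i hi]

theorem betaHom_lift (h : Chain ends β f e) (x : DualGr.CtrVert ends (univ.image e) → ℤ) :
    betaHom β (liftAt ends (univ.image e) (f 0) x) = betaHom (ctrFn ends (univ.image e) β) x := by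
  classical
  conv_rhs => rw [← h.push_lift x]
  simp only [betaHom_apply, pushV_apply, sum_mul]
  rw [← sum_fiberwise univ (DualGr.ctrMk ends (univ.image e))]
  refine sum_congr rfl fun c _ => sum_congr rfl fun v hv => ?_
  rw [fib, mem_filter] at *
  rw [← hv.2, ctrFn_mk _ h.beta_D]

theorem interior (h : Chain ends β f e) (t : V → ℤ) {j : ℕ} (h0 : 0 < j) (hj : j < m) :
    Matrix.mulVecLin (mfMatrix ends β) t (vtx f j) = t (vtx f (j - 1)) - 2 * t (vtx f j) + t (vtx f (j + 1)) := by
  classical
  rw [mulVec_apply']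
  simp only [h.row h0 hj, add_mul, sum_add_distrib, ite_mul, zero_mul, sum_ite_eq', mem_univ, if_true]
  ring

/-- Lifting intertwines the matrices up to the image. -/
theorem lift_range (h : Chain ends β f e) (y : DualGr.CtrVert ends (univ.image e) → ℤ) :
    liftAt ends (univ.image e) (f 0) (Matrix.mulVecLin
        (mfMatrix (DualGr.ctrEnds ends (univ.image e)) (ctrFn ends (univ.image e) β)) y) ∈
      LinearMap.range (Matrix.mulVecLin (mfMatrix ends β)) := by
  classical
  obtain ⟨z, -, hzα⟩ := h.exists_z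
  set a := Matrix.mulVecLin (mfMatrix ends β) (fun v => y (DualGr.ctrMk ends (univ.image e) v))
  rw [mulVec_ctr h.mult (univ.image e) h.beta_D]
  set r := liftAt ends (univ.image e) (f 0) (DualGr.pushV ends (univ.image e) a) - a with hr
  have hout : ∀ v, (∀ i, f i ≠ v) → r v = 0 := fun v hv => by
    rw [hr, Pi.sub_apply, h.liftAt_out _ hv, h.push_out _ hv, sub_self]
  have hsame : ∀ j, DualGr.ctrMk ends (univ.image e) (vtx f j) = DualGr.ctrMk ends (univ.image e) (f 0) := fun j =>
    (h.mk_eq_iff _ _).2 (Or.inr ⟨⟨_, rfl⟩, ⟨0, rfl⟩⟩)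
  have hin : ∀ j, 0 < j → j < m → r (vtx f j) = 0 := fun j h0 hj => by
    have hne : (⟨min j m, by omega⟩ : Fin (m + 1)) ≠ 0 := fun hh => by simp [Fin.ext_iff] at hh; omega
    rw [hr, Pi.sub_apply, show vtx f j = f ⟨min j m, by omega⟩ from rfl, h.liftAt_chain _ hne]
    have := h.interior (fun v => y (DualGr.ctrMk ends (univ.image e) v)) h0 hj
    simp only [hsame] at this
    rw [show a (f ⟨min j m, by omega⟩) = a (vtx f j) from rfl, show a (vtx f j) = _ from this]
    ring
  have hlast : (Fin.last m) ≠ 0 := fun hh => by simp [Fin.ext_iff] at hh; have := h.pos; omega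
  have hsum : r (f 0) + r (f (Fin.last m)) = 0 := by
    have h1 : ∑ i, r (f i) = 0 := by
      rw [← h.push_chain r, hr, map_sub, h.push_lift, sub_self]; rfl
    rw [← h1]
    refine (sum_eq_add_of_mem (f := fun i => r (f i)) 0 (Fin.last m) (mem_univ _) (mem_univ _) hlast.symm fun i _ hi => ?_).symm
    have := hin i.val (Nat.pos_of_ne_zero fun hh => hi.1 (Fin.ext hh))
      (lt_of_le_of_ne (Nat.lt_succ_iff.1 i.isLt) fun hh => hi.2 (Fin.ext hh))
    rwa [vtx_val] at this
  have hfin : liftAt ends (univ.image e) (f 0) (DualGr.pushV ends (univ.image e) a) = a + r (f 0) • Matrix.mulVecLin (mfMatrix ends β) z := by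
    funext v
    have hrv : r v = (r (f 0) • (Pi.single (vtx f 0) 1 - Pi.single (vtx f m) (1 : ℤ) : V → ℤ)) v := by
      rw [vtx_zero, show vtx f m = f (Fin.last m) by rw [← vtx_val f (Fin.last m)]; rfl]
      by_cases hv : ∀ i, f i ≠ v
      · simp [hout v hv, (hv 0).symm, (hv (Fin.last m)).symm]
      · push Not at hv
        obtain ⟨i, rfl⟩ := hv
        by_cases hi0 : i = 0
        · subst hi0; simp [h.inj.ne hlast.symm]
        by_cases him : i = Fin.last m
        · subst him; simp [h.inj.ne hlast]; linarith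
        · simp [h.inj.ne hi0, h.inj.ne him]
          have := hin i.val (Nat.pos_of_ne_zero fun hh => hi0 (Fin.ext hh))
            (lt_of_le_of_ne (Nat.lt_succ_iff.1 i.isLt) fun hh => him (Fin.ext hh))
          rwa [vtx_val] at this
    rw [hzα, Pi.add_apply, ← hrv, hr, Pi.sub_apply]
    ring
  rw [hfin]
  exact add_mem (LinearMap.mem_range_self _ _) (Submodule.smul_mem _ _ (LinearMap.mem_range_self _ _))

/-- Lifting from the contraction as a linear map. -/
noncomputable def liftLin (ends : E → V × V) (D : Finset E) (v₀ : V) :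
    (DualGr.CtrVert ends D → ℤ) →ₗ[ℤ] (V → ℤ) where
  toFun := liftAt ends D v₀
  map_add' x y := by funext v; simp only [liftAt, Pi.add_apply]; split_ifs <;> simp
  map_smul' c x := by funext v; simp only [liftAt, Pi.smul_apply, RingHom.id_apply]; split_ifs <;> simp

theorem single_mem (h : Chain ends β f e) (v : V) :
    (Pi.single v 1 : V → ℤ) ∈ LinearMap.range (liftLin ends (univ.image e) (f 0)) ⊔
      LinearMap.range (Matrix.mulVecLin (mfMatrix ends β)) := by
  classical
  set M := LinearMap.range (liftLin ends (univ.image e) (f 0)) ⊔ LinearMap.range (Matrix.mulVecLin (mfMatrix ends β))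
  have hW : ∀ g : V → ℤ, (∀ i, i ≠ 0 → g (f i) = 0) → g ∈ M := fun g hg =>
    Submodule.mem_sup_left ⟨DualGr.pushV ends (univ.image e) g, h.lift_push hg⟩
  have hA : ∀ g, Matrix.mulVecLin (mfMatrix ends β) g ∈ M := fun g => Submodule.mem_sup_right ⟨g, rfl⟩
  obtain ⟨z, -, hzα⟩ := h.exists_z
  obtain ⟨P, hmP, hlow, hcross⟩ := h.exists_side
  have hm := h.pos
  have h0 : (Pi.single (vtx f 0) 1 : V → ℤ) ∈ M := hW _ fun i hi => by simp [vtx_zero, h.inj.ne hi]
  have hlastm : (Pi.single (vtx f m) 1 : V → ℤ) ∈ M := by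
    have := M.sub_mem h0 (hA z); rwa [hzα, sub_sub_cancel] at this
  have hprev : (Pi.single (vtx f (m - 1)) 1 : V → ℤ) ∈ M := by
    have hr : Matrix.mulVecLin (mfMatrix ends β) (Pi.single (vtx f m) 1) + (2 : ℤ) • Pi.single (vtx f m) 1
        - Pi.single (vtx f (m - 1)) 1 ∈ M := hW _ fun i _ => by
      simp only [Pi.sub_apply, Pi.add_apply, Pi.smul_apply, smul_eq_mul, mulVec_apply', Pi.single_apply,
        mul_ite, mul_one, mul_zero, sum_ite_eq', mem_univ, if_true]
      rw [← vtx_val f i]
      rcases Nat.lt_or_eq_of_le (Nat.lt_succ_iff.1 i.isLt) with hlt | heq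
      · have hne : vtx f i.val ≠ vtx f m := fun hh => hlow _ hlt (hh ▸ hmP)
        rw [mfMatrix_off hne, hcross _ _ (hlow _ hlt) hmP, if_neg hne]
        simp
      · rw [heq, h.diag_vtx, if_pos rfl, if_neg]
        · ring
        · intro hh; have := vtx_inj h.inj le_rfl (by omega) hh; omega
    have := M.sub_mem (M.add_mem (hA (Pi.single (vtx f m) 1)) (M.smul_mem 2 hlastm)) hr
    rwa [sub_sub_cancel] at this
  have all : ∀ k, k ≤ m → (Pi.single (vtx f (m - k)) 1 : V → ℤ) ∈ M := by
    intro k
    induction k using Nat.strong_induction_on with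
    | _ k ih =>
      intro hk
      rcases k with _ | _ | k
      · simpa using hlastm
      · simpa using hprev
      · have hj : m - (k + 1) < m := by omega
        have h1 := ih (k + 1) (by omega) (by omega)
        have h2 := ih k (by omega) (by omega)
        have h3 : Matrix.mulVecLin (mfMatrix ends β) (Pi.single (vtx f (m - (k + 1))) 1) =
            Pi.single (vtx f (m - (k + 1) - 1)) 1 + (-2 : ℤ) • Pi.single (vtx f (m - (k + 1))) 1
              + Pi.single (vtx f (m - (k + 1) + 1)) 1 := by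
          funext w
          simp only [mulVec_apply', Pi.add_apply, Pi.smul_apply, smul_eq_mul, Pi.single_apply, mul_ite, mul_one,
            mul_zero, sum_ite_eq', mem_univ, if_true]
          rw [mfMatrix_symm, h.row (by omega) hj]
        have h4 := hA (Pi.single (vtx f (m - (k + 1))) 1)
        rw [h3, show m - (k + 1) - 1 = m - (k + 1 + 1) by omega, show m - (k + 1) + 1 = m - k by omega] at h4
        exact (M.add_mem_iff_left (M.smul_mem _ h1)).1 ((M.add_mem_iff_left h2).1 h4)
  by_cases hv : ∀ i, f i ≠ v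
  · exact hW _ fun i _ => by simp [hv i]
  · push Not at hv
    obtain ⟨i, rfl⟩ := hv
    have := all (m - i.val) (Nat.sub_le _ _)
    rwa [show m - (m - i.val) = i.val by omega, vtx_val] at this

theorem compGrp_surjective (h : Chain ends β f e) :
    ∃ φ : CompGrp (DualGr.ctrEnds ends (univ.image e)) (ctrFn ends (univ.image e) β) →+ CompGrp ends β,
      Function.Surjective φ ∧
      ∀ (x : LinearMap.ker (betaHom (ctrFn ends (univ.image e) β)))
        (y : LinearMap.ker (betaHom β)),
        (y : V → ℤ) = liftAt ends (univ.image e) (f 0) (x : DualGr.CtrVert ends (univ.image e) → ℤ) →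
        φ (Submodule.Quotient.mk x) = Submodule.Quotient.mk y := by
  classical
  have hker : ∀ x ∈ LinearMap.ker (betaHom (ctrFn ends (univ.image e) β)), liftLin ends (univ.image e) (f 0) x ∈ LinearMap.ker (betaHom β) :=
    fun x hx => by
      rw [LinearMap.mem_ker] at hx ⊢
      exact (h.betaHom_lift x).trans hx
  let g := (liftLin ends (univ.image e) (f 0)).restrict hker
  have hle : (LinearMap.range (Matrix.mulVecLin (mfMatrix (DualGr.ctrEnds ends (univ.image e)) (ctrFn ends (univ.image e) β)))).comap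
      (LinearMap.ker (betaHom (ctrFn ends (univ.image e) β))).subtype ≤
      ((LinearMap.range (Matrix.mulVecLin (mfMatrix ends β))).comap (LinearMap.ker (betaHom β)).subtype).comap g := by
    intro x hx
    obtain ⟨y, hy⟩ := hx
    show liftAt ends (univ.image e) (f 0) x.1 ∈ LinearMap.range (Matrix.mulVecLin (mfMatrix ends β))
    rw [show x.1 = _ from hy.symm]
    exact h.lift_range y
  refine ⟨(Submodule.mapQ _ _ g hle).toAddMonoidHom, ?_, fun x y hxy => ?_⟩
  · intro q
    obtain ⟨y, rfl⟩ := Submodule.Quotient.mk_surjective _ q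
    have hy : y.1 ∈ LinearMap.range (liftLin ends (univ.image e) (f 0)) ⊔ LinearMap.range (Matrix.mulVecLin (mfMatrix ends β)) := by
      rw [pi_eq_sum_univ' y.1]
      exact Submodule.sum_mem _ fun v _ => Submodule.smul_mem _ _ (by
        simpa [← Pi.single_apply] using h.single_mem v)
    obtain ⟨_, ⟨x, rfl⟩, _, ⟨t, rfl⟩, hxy⟩ := Submodule.mem_sup.1 hy
    have hx : x ∈ LinearMap.ker (betaHom (ctrFn ends (univ.image e) β)) := by
      rw [LinearMap.mem_ker, ← h.betaHom_lift]
      have h1 : betaHom β (y.1) = 0 := y.2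
      rw [← hxy, map_add, betaHom_mulVec h.mult, add_zero] at h1
      exact h1
    refine ⟨Submodule.Quotient.mk ⟨x, hx⟩, (Submodule.Quotient.eq _).2 ?_⟩
    show liftLin ends (univ.image e) (f 0) x - y.1 ∈ LinearMap.range (Matrix.mulVecLin (mfMatrix ends β))
    rw [← hxy, sub_add_cancel_left]
    exact neg_mem (LinearMap.mem_range_self _ _)
  · show Submodule.Quotient.mk (g x) = _
    congr 1
    exact Subtype.ext hxy.symm

theorem compGrp_injective (h : Chain ends β f e) (x : DualGr.CtrVert ends (univ.image e) → ℤ)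
    (hfx : liftAt ends (univ.image e) (f 0) x ∈ LinearMap.range (Matrix.mulVecLin (mfMatrix ends β))) :
    x ∈ LinearMap.range (Matrix.mulVecLin
      (mfMatrix (DualGr.ctrEnds ends (univ.image e)) (ctrFn ends (univ.image e) β))) := by
  classical
  obtain ⟨z, hz, hzα⟩ := h.exists_z
  obtain ⟨t, ht⟩ := hfx
  set s := t (vtx f 1) - t (vtx f 0)
  have hlin : ∀ j, j ≤ m → t (vtx f j) = t (vtx f 0) + j * s := by
    intro j
    induction j using Nat.strong_induction_on with
    | _ j ih =>
      intro hj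
      rcases j with _ | _ | j
      · simp
      · simp [s]
      · have h1 := h.interior t (j := j + 1) (by omega) (by omega)
        rw [ht, show vtx f (j + 1) = f ⟨min (j + 1) m, by omega⟩ from rfl,
          h.liftAt_chain x (fun hh => by simp [Fin.ext_iff] at hh; omega)] at h1
        simp only [Nat.add_sub_cancel, show f ⟨min (j + 1) m, by omega⟩ = vtx f (j + 1) from rfl] at h1
        have := ih j (by omega) (by omega)
        have := ih (j + 1) (by omega) (by omega)
        push_cast at *
        linarith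
  set t' := t - s • z with ht'
  have hchain : ∀ i, t' (f i) = t (vtx f 0) := fun i => by
    have hi := Nat.lt_succ_iff.1 i.isLt
    rw [← vtx_val f i, ht', Pi.sub_apply, Pi.smul_apply, smul_eq_mul, hlin _ hi, hz _ hi]
    ring
  refine ⟨fun c => t' (Quotient.out (s := DualGr.ctrSetoid ends (univ.image e)) c), ?_⟩
  rw [mulVec_ctr h.mult (univ.image e) h.beta_D]
  have hfac : (fun v => t' (Quotient.out (s := DualGr.ctrSetoid ends (univ.image e)) (DualGr.ctrMk ends (univ.image e) v))) = t' := funext fun v => by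
    have : DualGr.ctrMk ends (univ.image e) (Quotient.out (s := DualGr.ctrSetoid ends (univ.image e)) (DualGr.ctrMk ends (univ.image e) v)) = DualGr.ctrMk ends (univ.image e) v :=
      Quotient.out_eq _
    rcases (h.mk_eq_iff _ v).1 this with hh | ⟨⟨i, hi⟩, ⟨j, hj⟩⟩
    · rw [hh]
    · rw [← hi, ← hj, hchain, hchain]
  rw [hfac, ht', map_sub, map_smul, map_sub, map_smul, ht, h.push_lift, hzα]
  have : DualGr.pushV ends (univ.image e) (Pi.single (vtx f 0) 1 - Pi.single (vtx f m) 1) = 0 := by
    funext c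
    rw [pushV_apply]
    simp only [Pi.sub_apply, sum_sub_distrib, sum_pi_single, mem_fib]
    simp [mem_fib, (h.mk_eq_iff (vtx f 0) (vtx f m)).2 (Or.inr ⟨⟨_, rfl⟩, ⟨_, rfl⟩⟩)]
  rw [this, smul_zero, sub_zero]

end Chain

end Groth.Agent.LabG36
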