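import Groth.Agent.LabG36.Basic

/-!
Circuit-coprimality, Cartier labellings and their decompositions; the multidegree.
-/

universe u v

namespace Groth.Agent.LabG36

open Finset

set_option linter.unusedSectionVars false

variable {V E : Type u} [Fintype V] [Fintype E] [DecidableEq V] [DecidableEq E] {ends : E → V × V} {l : E → ℕ}

/-- Every edge vector is congruent to a coboundary modulo the labels. -/
def ModSolvable (ends : E → V × V) (l : E → ℕ) : Prop :=
  ∀ x : E → ℤ, ∃ φ : V → ℤ, ∀ e, (l e : ℤ) ∣ dd ends φ e - x e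

theorem gcd_mul_of_coprime (a : ℕ) {m n : ℕ} (h : Nat.Coprime m n) : Nat.gcd a (m * n) = Nat.gcd a m * Nat.gcd a n :=
  h.gcd_mul a

theorem modSolvable_of_coprime (hl : ∀ e, 0 < l e) (h : LabGraph.IsCircuitCoprime ends l) :
    ModSolvable ends l := by
  intro x
  have key : ∀ n : ℕ, 0 < n → ∃ φ : V → ℤ, ∀ e, ((Nat.gcd (l e) n : ℕ) : ℤ) ∣ dd ends φ e - x e := by
    intro n
    induction n using Nat.recOnPrimeCoprime with
    | zero => intro h0; exact absurd h0 (lt_irrefl 0)
    | prime_pow p k hp =>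
      intro _
      have hA : Acyclic ends (univ.filter fun e => p ∣ l e) := fun C hC hcirc => by
        have h1 := h C hcirc
        have : p ∣ C.gcd l := Finset.dvd_gcd fun e he => (mem_filter.1 (hC he)).2
        rw [h1] at this
        exact hp.one_lt.ne' (Nat.dvd_one.1 this)
      obtain ⟨φ, hφ⟩ := hA.exists_potential x
      refine ⟨φ, fun e => ?_⟩
      by_cases he : p ∣ l e
      · simp [hφ e (by simp [he])]
      · have : Nat.gcd (l e) (p ^ k) = 1 := ((hp.coprime_iff_not_dvd.2 he).symm.pow_right k)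
        simp [this]
    | coprime a b ha hb hab iha ihb =>
      intro _
      obtain ⟨φa, hφa⟩ := iha (by omega)
      obtain ⟨φb, hφb⟩ := ihb (by omega)
      obtain ⟨u, w, huw⟩ := Nat.isCoprime_iff_coprime.2 hab
      refine ⟨fun z => u * a * φb z + w * b * φa z, fun e => ?_⟩
      have : dd ends (fun z => u * (a : ℤ) * φb z + w * b * φa z) e - x e
          = u * ((a : ℤ) * (dd ends φb e - x e)) + w * ((b : ℤ) * (dd ends φa e - x e)) := by
        simp only [dd]; linear_combination x e * huw
      rw [this, gcd_mul_of_coprime _ hab]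
      push_cast
      refine dvd_add (Dvd.dvd.mul_left (mul_dvd_mul (Int.natCast_dvd_natCast.2 (Nat.gcd_dvd_right _ _)) (hφb e)) _) ?_
      rw [mul_comm (Nat.gcd (l e) a : ℤ)]
      exact Dvd.dvd.mul_left (mul_dvd_mul (Int.natCast_dvd_natCast.2 (Nat.gcd_dvd_right _ _)) (hφa e)) _
  obtain ⟨φ, hφ⟩ := key (∏ e, l e) (prod_pos fun e _ => hl e)
  exact ⟨φ, fun e => by simpa [Nat.gcd_eq_left (dvd_prod_of_mem l (mem_univ e))] using hφ e⟩

theorem coprime_of_modSolvable (h : ModSolvable ends l) : LabGraph.IsCircuitCoprime ends l := by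
  intro C hC
  obtain ⟨e, he⟩ := hC.1
  obtain ⟨γ, h1, h2, h3⟩ := IsCircuit.exists_cycle hC he
  obtain ⟨φ, hφ⟩ := h (Pi.single e 1)
  choose k hk using hφ
  have h0 : ∑ f, γ f * dd ends φ f = 0 := by rw [← sum_mul_boundary]; simp [h2]
  have heq : ∑ f, γ f * ((l f : ℤ) * k f) = -1 := by
    simp only [← hk, mul_sub, sum_sub_distrib, h0]
    simp [Pi.single_apply, h3]
  have : ((C.gcd l : ℕ) : ℤ) ∣ -1 := by
    rw [← heq]
    refine dvd_sum fun f _ => ?_
    by_cases hf : f ∈ C
    · exact Dvd.dvd.mul_left (Dvd.dvd.mul_right (Int.natCast_dvd_natCast.2 (gcd_dvd hf)) _) _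
    · simp [h1 f hf]
  rwa [Int.dvd_neg, ← Nat.cast_one, Int.natCast_dvd_natCast, Nat.dvd_one] at this

theorem coprime_iff (hl : ∀ e, 0 < l e) : LabGraph.IsCircuitCoprime ends l ↔ ModSolvable ends l :=
  ⟨modSolvable_of_coprime hl, coprime_of_modSolvable⟩

theorem coprime_iff_orthogonal (hl : ∀ e, 0 < l e) :
    LabGraph.IsCircuitCoprime ends l ↔
      ∀ x : E → ℤ, ∃ y : E → ℤ, ∀ γ : E → ℤ, (∀ v : V, LabGraph.boundary ends γ v = 0) →
        ∑ e : E, γ e * (x e - (l e : ℤ) * y e) = 0 := by
  rw [coprime_iff hl]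
  constructor
  · intro h x
    obtain ⟨φ, hφ⟩ := h x
    choose k hk using hφ
    refine ⟨fun e => -k e, fun γ hγ => ?_⟩
    calc ∑ e, γ e * (x e - (l e : ℤ) * -k e) = ∑ e, γ e * dd ends φ e :=
          sum_congr rfl fun e _ => by have := hk e; linear_combination (-γ e) * this
      _ = 0 := by rw [← sum_mul_boundary]; simp [hγ]
  · intro h x
    obtain ⟨y, hy⟩ := h x
    obtain ⟨φ, hφ⟩ := exists_potential univ (fun e => x e - (l e : ℤ) * y e) fun γ _ hγ => hy γ hγ
    exact ⟨φ, fun e => ⟨-y e, by rw [hφ e (mem_univ e)]; ring⟩⟩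

theorem mdeg_inner (φ : V → ℤ) (hφ : LabGraph.IsCartier ends l φ) :
    ∑ v, φ v * LabGraph.mdeg ends l φ v =
      -∑ e, (l e : ℤ) * ((φ (ends e).2 - φ (ends e).1) / (l e : ℤ)) ^ 2 := by
  simp only [LabGraph.mdeg, mul_sum]
  rw [sum_comm, ← sum_neg_distrib]
  refine sum_congr rfl fun e _ => ?_
  simp only [mul_add, mul_ite, mul_zero, sum_add_distrib, sum_ite_eq, mem_univ, if_true]
  obtain ⟨c, hc⟩ := hφ e
  by_cases h0 : (l e : ℤ) = 0
  · simp [h0]
  rw [hc, show φ (ends e).2 - φ (ends e).1 = (l e : ℤ) * -c by linarith,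
    Int.mul_ediv_cancel_left _ h0, Int.mul_ediv_cancel_left _ h0]
  linear_combination -c * hc

theorem mdeg_eq_zero_iff (hl : ∀ e, 0 < l e) (hconn : LabGraph.Connected ends) (φ : V → ℤ)
    (hφ : LabGraph.IsCartier ends l φ) :
    (∀ v, LabGraph.mdeg ends l φ v = 0) ↔ ∀ v w, φ v = φ w := by
  constructor
  · intro h v w
    refine eq_of_conn (fun e _ => ?_) (conn_univ hconn v w)
    have h0 := mdeg_inner φ hφ
    simp only [h, mul_zero, sum_const_zero, zero_eq_neg] at h0
    have := (sum_eq_zero_iff_of_nonneg (fun f _ => mul_nonneg (Int.natCast_nonneg _) (sq_nonneg _))).1 h0 e (mem_univ e)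
    have hle : (l e : ℤ) ≠ 0 := by have := hl e; omega
    simp [hle] at this
    obtain ⟨c, hc⟩ := hφ e
    rw [show φ (ends e).2 - φ (ends e).1 = (l e : ℤ) * -c by linarith, Int.mul_ediv_cancel_left _ hle] at this
    rw [show c = 0 by omega, mul_zero] at hc
    omega
  · intro h v
    simp [LabGraph.mdeg, fun e => h (ends e).1 (ends e).2]

/-- Restriction of a cycle to a class of edges which is constant on circuits is a cycle. -/
theorem class_cycle {L : Type v} (lab : E → L) [DecidableEq L]
    (hcirc : ∀ C : Finset E, LabGraph.IsCircuit ends C → ∀ e ∈ C, ∀ e' ∈ C, lab e = lab e')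
    (c : L) {γ : E → ℤ} (hγ : ∀ v, LabGraph.boundary ends γ v = 0) (v : V) :
    LabGraph.boundary ends (fun e => if lab e = c then γ e else 0) v = 0 := by
  classical
  induction hn : (univ.filter fun e => γ e ≠ 0).card using Nat.strong_induction_on generalizing γ with
  | _ n ih =>
    by_cases h : ∃ e, γ e ≠ 0
    · obtain ⟨e, he⟩ := h
      obtain ⟨C, hC, hsupp⟩ := exists_circuit_support hγ he
      obtain ⟨f, hf⟩ := hC.1
      obtain ⟨δ, d1, d2, d3⟩ := IsCircuit.exists_cycle hC hf
      let γ' : E → ℤ := γ + (-γ f) • δ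
      have hb : ∀ v, LabGraph.boundary ends γ' v = 0 := fun v => by
        simp only [γ', boundary_add, boundary_smul, hγ, d2]; ring
      have hlt : (univ.filter fun e => γ' e ≠ 0).card < n := by
        rw [← hn]
        refine card_lt_card ((Finset.ssubset_iff_of_subset fun g hg => ?_).2 ⟨f, by simp [hsupp f hf], by simp [γ', d3]⟩)
        simp only [mem_filter, mem_univ, true_and] at hg ⊢
        intro h0
        by_cases hgC : g ∈ C
        · exact hsupp g hgC h0
        · simp [γ', h0, d1 g hgC] at hg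
      have hd : LabGraph.boundary ends (fun e => if lab e = c then δ e else 0) v = 0 := by
        by_cases hfc : lab f = c
        · have : (fun e => if lab e = c then δ e else 0) = δ := funext fun g => by
            by_cases hg : g ∈ C
            · simp [hcirc C hC g hg f hf, hfc]
            · simp [d1 g hg]
          rw [this, d2]
        · have : (fun e => if lab e = c then δ e else 0) = (0 : E → ℤ) := funext fun g => by
            by_cases hg : g ∈ C
            · simp [hcirc C hC g hg f hf, hfc]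
            · simp [d1 g hg]
          rw [this, boundary_zero]
      have e1 : (fun e => if lab e = c then γ e else 0) =
          (fun e => if lab e = c then γ' e else 0) + (γ f) • fun e => if lab e = c then δ e else 0 := by
        funext g
        simp only [γ', Pi.add_apply, Pi.smul_apply, smul_eq_mul]
        split_ifs <;> ring
      rw [e1, boundary_add, boundary_smul, hd, ih _ hlt hb rfl, mul_zero, add_zero]
    · push Not at h
      simp [LabGraph.boundary, h]

/-- The summand of `f` carried by one class of edges. -/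
theorem exists_class_part {L : Type v} (lab : E → L) [DecidableEq L]
    (hcirc : ∀ C : Finset E, LabGraph.IsCircuit ends C → ∀ e ∈ C, ∀ e' ∈ C, lab e = lab e')
    (f : V → ℤ) (c : L) (v₀ : V) :
    ∃ g : V → ℤ, g v₀ = 0 ∧ ∀ e, dd ends g e = if lab e = c then dd ends f e else 0 := by
  obtain ⟨φ, hφ⟩ := exists_potential (ends := ends) univ (fun e => if lab e = c then dd ends f e else 0) fun γ _ hγ => by
    calc ∑ e, γ e * (if lab e = c then dd ends f e else 0)
        = ∑ e, (if lab e = c then γ e else 0) * dd ends f e := sum_congr rfl fun e _ => by split_ifs <;> simp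
      _ = 0 := by rw [← sum_mul_boundary]; simp [class_cycle lab hcirc c hγ]
  refine ⟨fun v => φ v - φ v₀, sub_self _, fun e => ?_⟩
  rw [← hφ e (mem_univ e)]; simp [dd]

theorem preAchievable_decomp {L : Type v} (lab : E → L) (n : E → ℕ)
    (hconn : LabGraph.Connected ends)
    (hcirc : ∀ C : Finset E, LabGraph.IsCircuit ends C → ∀ e ∈ C, ∀ e' ∈ C, lab e = lab e')
    (f : V → ℤ) (hf : LabGraph.IsCartier ends n f) :
    f ∈ AddSubmonoid.closure {g : V → ℤ | LabGraph.IsCartier ends n g ∧ (∃ B : Finset E, (∀ e ∈ B, ∀ e' ∈ B, lab e = lab e') ∧ ∀ e, e ∉ B → g (ends e).1 = g (ends e).2)} ∧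
    ∀ v₀ : V, f v₀ = 0 →
      f ∈ AddSubmonoid.closure {g : V → ℤ | LabGraph.IsCartier ends n g ∧ (∃ B : Finset E, (∀ e ∈ B, ∀ e' ∈ B, lab e = lab e') ∧ ∀ e, e ∉ B → g (ends e).1 = g (ends e).2) ∧ g v₀ = 0} := by
  classical
  have main : ∀ v₀ : V, (fun v => f v - f v₀) ∈
      AddSubmonoid.closure {g : V → ℤ | LabGraph.IsCartier ends n g ∧ (∃ B : Finset E, (∀ e ∈ B, ∀ e' ∈ B, lab e = lab e') ∧ ∀ e, e ∉ B → g (ends e).1 = g (ends e).2) ∧ g v₀ = 0} := by
    intro v₀
    choose g g0 gd using fun c : L => exists_class_part lab hcirc f c v₀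
    have hsum : (fun v => f v - f v₀) = ∑ c ∈ univ.image lab, g c := by
      funext v
      rw [Finset.sum_apply]
      have hc : (fun z => f z - ∑ c ∈ univ.image lab, g c z) v = (fun z => f z - ∑ c ∈ univ.image lab, g c z) v₀ := by
        refine eq_of_conn (φ := fun z => f z - ∑ c ∈ univ.image lab, g c z) (fun e _ => ?_) (conn_univ hconn v v₀)
        have h1 : ∑ c ∈ univ.image lab, dd ends (g c) e = dd ends f e := by
          simp [gd]
        simp only [dd, sum_sub_distrib] at h1
        linarith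
      simp only [g0, sum_const_zero, sub_zero] at hc
      linarith
    rw [hsum]
    refine AddSubmonoid.sum_mem _ fun c _ => AddSubmonoid.subset_closure ⟨fun e => ?_, ⟨univ.filter fun e => lab e = c,
      fun a ha b hb => by simp at ha hb; rw [ha, hb], fun e he => ?_⟩, g0 c⟩
    · have := gd c e
      split_ifs at this with h
      · rw [dd, dd] at this; rw [← neg_sub, this, neg_sub]; exact hf e
      · rw [dd] at this; rw [← neg_sub, this]; simp
    · have := gd c e
      rw [if_neg (by simpa using he), dd] at this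
      omega
  refine ⟨?_, fun v₀ h0 => by simpa [h0] using main v₀⟩
  obtain ⟨v₀⟩ := hconn.1
  have h1 := AddSubmonoid.closure_mono (t := {g : V → ℤ | LabGraph.IsCartier ends n g ∧ (∃ B : Finset E, (∀ e ∈ B, ∀ e' ∈ B, lab e = lab e') ∧ ∀ e, e ∉ B → g (ends e).1 = g (ends e).2)})
    (fun g hg => ⟨hg.1, hg.2.1⟩) (main v₀)
  have h2 : (fun _ : V => f v₀) ∈ AddSubmonoid.closure {g : V → ℤ | LabGraph.IsCartier ends n g ∧ (∃ B : Finset E, (∀ e ∈ B, ∀ e' ∈ B, lab e = lab e') ∧ ∀ e, e ∉ B → g (ends e).1 = g (ends e).2)} :=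
    AddSubmonoid.subset_closure ⟨fun e => by simp, ⟨∅, by simp, fun e _ => rfl⟩⟩
  have := AddSubmonoid.add_mem _ h1 h2
  simpa [Pi.add_def] using this

theorem cartier_mem_span_elementary (hl : ∀ e, 0 < l e) (f : V → ℤ) (hf : LabGraph.IsCartier ends l f) :
    f ∈ Submodule.span ℤ {g : V → ℤ | ∃ n : ℕ, 0 < n ∧ (∀ v, (n : ℤ) ∣ g v) ∧
      ∀ e, ¬ (l e ∣ n) → g (ends e).1 = g (ends e).2} := by
  classical
  set S := Submodule.span ℤ {g : V → ℤ | ∃ n : ℕ, 0 < n ∧ (∀ v, (n : ℤ) ∣ g v) ∧
      ∀ e, ¬ (l e ∣ n) → g (ends e).1 = g (ends e).2} with hS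
  set L := ∏ e, l e with hL
  have hL0 : 0 < L := prod_pos fun e _ => hl e
  have hdvd : ∀ e, l e ∣ L := fun e => dvd_prod_of_mem l (mem_univ e)
  have hLf : (L : ℤ) • f ∈ S := Submodule.subset_span ⟨L, hL0, fun v => by simp, fun e he => absurd (hdvd e) he⟩
  have hp : ∀ p : ℕ, p.Prime → ((L / p ^ L.factorization p : ℕ) : ℤ) • f ∈ S := by
    intro p hp
    set L' := L / p ^ L.factorization p with hL'
    have hL'0 : 0 < L' := Nat.div_pos (Nat.le_of_dvd hL0 (Nat.ordProj_dvd L p)) (pow_pos hp.pos _)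
    let A : ℕ → Finset E := fun k => univ.filter fun e => ¬ l e ∣ p ^ k * L'
    let st : ℕ → Setoid V := fun k => ⟨Conn ends (A k), ⟨.refl, Conn.symm, Conn.trans⟩⟩
    let r : ℕ → V → V := fun k v => (Quotient.mk (st k) v).out
    let h : ℕ → V → ℤ := fun k v => f (r k v)
    have hr : ∀ k v, Conn ends (A k) (r k v) v := fun k v => Quotient.mk_out (s := st k) v
    have hA : ∀ j k, j ≤ k → A k ⊆ A j := fun j k hjk e he => by
      simp only [A, mem_filter, mem_univ, true_and] at he ⊢
      exact fun h => he (h.trans (Nat.mul_dvd_mul_right (pow_dvd_pow p hjk) L'))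
    have hval : ∀ e k, ¬ l e ∣ p ^ k * L' → p ^ (k + 1) ∣ l e := by
      intro e k hn
      by_contra hnot
      apply hn
      obtain ⟨a, q, hq, hae⟩ := Nat.exists_eq_pow_mul_and_not_dvd (hl e).ne' p hp.ne_one
      rw [hae]
      refine Nat.mul_dvd_mul (pow_dvd_pow p ?_) ?_
      · by_contra hka
        exact hnot (hae ▸ (pow_dvd_pow p (by omega)).trans (dvd_mul_right _ _))
      · have : q ∣ p ^ L.factorization p * L' := by
          rw [Nat.ordProj_mul_ordCompl_eq_self]
          exact (hae ▸ dvd_mul_left q (p ^ a)).trans (hdvd e)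
        exact (Nat.Coprime.pow_right _ (hp.coprime_iff_not_dvd.2 hq).symm).dvd_of_dvd_mul_left this
    have hsat : ∀ k v w, Conn ends (A k) v w → r k v = r k w := fun k v w hvw => by
      show (Quotient.mk (st k) v).out = (Quotient.mk (st k) w).out
      rw [Quotient.sound (s := st k) hvw]
    have hcong : ∀ k v w, Conn ends (A k) v w → ((p ^ (k + 1) : ℕ) : ℤ) ∣ f v - f w := by
      intro k v w hvw
      induction hvw with
      | refl => simp
      | @tail b c _ hbc ih =>
        obtain ⟨e, he, hh⟩ := hbc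
        have hd : ((p ^ (k + 1) : ℕ) : ℤ) ∣ f (ends e).1 - f (ends e).2 :=
          (Int.natCast_dvd_natCast.2 (hval e k (by simpa [A] using he))).trans (hf e)
        have : f v - f c = (f v - f b) + (f b - f c) := by ring
        rw [this]
        refine dvd_add ih ?_
        rcases hh with hh | hh <;> rw [hh] at hd
        · exact hd
        · exact (dvd_sub_comm).1 hd
    have hconst : ∀ j k, j ≤ k → ∀ e ∈ A k, h j (ends e).1 = h j (ends e).2 := fun j k hjk e he => by
      simp only [h, hsat j _ _ (Conn.of_edge (hA j k hjk he))]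
    have step : ∀ k, (L' : ℤ) • (h (k + 1) - h k) ∈ S := fun k =>
      Submodule.subset_span ⟨p ^ (k + 1) * L', Nat.mul_pos (pow_pos hp.pos _) hL'0, fun v => by
        simp only [Pi.smul_apply, Pi.sub_apply, smul_eq_mul, h, Nat.cast_mul]
        rw [mul_comm]
        exact mul_dvd_mul_left _ (hcong k _ _ (((hr (k + 1) v).mono (hA k (k + 1) (by omega))).trans (hr k v).symm)),
        fun e he => by
          have heA : e ∈ A (k + 1) := by simp [A, he]
          simp [hconst k (k + 1) (by omega) e heA, hconst (k + 1) (k + 1) le_rfl e heA]⟩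
    have all : ∀ k, (L' : ℤ) • h k ∈ S := by
      intro k
      induction k with
      | zero =>
        refine Submodule.subset_span ⟨L', hL'0, fun v => by simp, fun e he => ?_⟩
        have heA : e ∈ A 0 := by simp [A, he]
        simp [hconst 0 0 le_rfl e heA]
      | succ k ih => simpa [smul_sub] using S.add_mem (step k) ih
    have hK : h (L.factorization p) = f := by
      funext v
      exact eq_of_conn (φ := f) (fun e he => by
        simp [A, L', Nat.ordProj_mul_ordCompl_eq_self, hdvd e] at he) (hr _ v)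
    simpa [hK] using all (L.factorization p)
  let I : Ideal ℤ := S.comap (LinearMap.toSpanSingleton ℤ _ f)
  suffices hI : (1 : ℤ) ∈ I by simpa [I] using hI
  have hg := Ideal.span_singleton_generator I
  set g := Submodule.IsPrincipal.generator I
  have hgd : ∀ x ∈ I, g ∣ x := fun x hx => Ideal.mem_span_singleton.1 (hg.symm ▸ hx)
  by_contra h1
  have hg1 : g.natAbs ≠ 1 := fun hh => h1 (by
    rw [← hg, Ideal.mem_span_singleton]; exact (Int.isUnit_iff_natAbs_eq.2 hh).dvd)
  obtain ⟨p, hpp, hpg⟩ := Nat.exists_prime_and_dvd hg1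
  have hx := hgd ((L / p ^ L.factorization p : ℕ) : ℤ) (by
    show (LinearMap.toSpanSingleton ℤ _ f) _ ∈ S
    rw [LinearMap.toSpanSingleton_apply]
    exact hp p hpp)
  exact Nat.not_dvd_ordCompl hpp hL0.ne' (Int.natCast_dvd_natCast.1 ((Int.natCast_dvd.2 hpg).trans hx))

end Groth.Agent.LabG36
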