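import Groth.Agent.LabG36.Basic
import Groth.Prelude.Def_W4c2conddiscmodels

/-!
Spanning trees as edge sets, and the vertices lying on circuits.
-/

universe u

namespace Groth.Agent.LabG36

open Finset

set_option linter.unusedSectionVars false

variable {V E : Type u} [Fintype V] [Fintype E] [DecidableEq V] [DecidableEq E] {ends : E → V × V}

theorem endCount_map (T : Finset E) (C : Finset T) (v : V) :
    LabGraph.endCount ends (C.map ⟨Subtype.val, Subtype.val_injective⟩) v =
      LabGraph.endCount (fun e : T => ends e.1) C v := by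
  simp [LabGraph.endCount]

theorem exists_map_eq {T : Finset E} {C : Finset E} (h : C ⊆ T) :
    ∃ C₀ : Finset T, C₀.map ⟨Subtype.val, Subtype.val_injective⟩ = C :=
  ⟨C.subtype (· ∈ T), by ext x; simp; exact fun hx => h hx⟩

theorem isCircuit_sub (T : Finset E) (C : Finset T) :
    LabGraph.IsCircuit (fun e : T => ends e.1) C ↔
      LabGraph.IsCircuit ends (C.map ⟨Subtype.val, Subtype.val_injective⟩) := by
  simp only [LabGraph.IsCircuit, map_nonempty, endCount_map]
  refine and_congr_right fun _ => and_congr_right fun _ => ⟨fun h D hD hne => ?_, fun h D hD hne => ?_⟩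
  · obtain ⟨D₀, rfl⟩ := exists_map_eq (T := T) (fun x hx => by
      have := hD.subset hx; simp at this; exact this.1)
    simp only [map_ssubset_map, map_nonempty, endCount_map] at *
    exact h D₀ hD hne
  · have := h (D.map ⟨Subtype.val, Subtype.val_injective⟩) (map_ssubset_map.2 hD) (map_nonempty.2 hne)
    simpa [endCount_map] using this

theorem isSpanningTree_iff (T : Finset E) :
    LabGraph.IsSpanningTree ends T ↔ Nonempty V ∧ (∀ a b, Conn ends T a b) ∧ Acyclic ends T := by
  rw [LabGraph.IsSpanningTree, DualGr.IsTree, LabGraph.Connected, and_assoc]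
  refine and_congr_right fun _ => and_congr ?_ ?_
  · refine forall_congr' fun a => forall_congr' fun b => ?_
    exact ⟨Relation.ReflTransGen.mono (fun _ _ ⟨e, he⟩ => ⟨e.1, e.2, he⟩) _ _,
      Relation.ReflTransGen.mono (fun _ _ ⟨e, he, h⟩ => ⟨⟨e, he⟩, h⟩) _ _⟩
  · constructor
    · intro h C hC hcirc
      obtain ⟨C₀, rfl⟩ := exists_map_eq hC
      exact h C₀ ((isCircuit_sub T C₀).2 hcirc)
    · exact fun h C hC => h _ (fun x hx => by simp at hx; exact hx.1) ((isCircuit_sub T C).1 hC)

theorem exists_spanningTree (hG : LabGraph.Connected ends) : ∃ T : Finset E, LabGraph.IsSpanningTree ends T := by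
  obtain ⟨T, -, h2, h3⟩ := exists_spanning_acyclic univ (conn_univ hG)
  exact ⟨T, (isSpanningTree_iff T).2 ⟨hG.1, h3, h2⟩⟩

theorem endCount_ne_zero_iff (C : Finset E) (v : V) :
    LabGraph.endCount ends C v ≠ 0 ↔ ∃ e ∈ C, (ends e).1 = v ∨ (ends e).2 = v := by
  simp only [LabGraph.endCount, ne_eq, sum_eq_zero_iff, not_forall]
  refine exists_congr fun e => ?_
  constructor
  · rintro ⟨he, h⟩
    refine ⟨he, ?_⟩
    by_contra hh
    push Not at hh
    simp [hh.1, hh.2] at h
  · rintro ⟨he, h⟩
    refine ⟨he, ?_⟩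
    rcases h with h | h <;> simp [h]

theorem mem_circuit_iff (hG : LabGraph.Connected ends) (v : V) :
    (∃ C : Finset E, LabGraph.IsCircuit ends C ∧ LabGraph.endCount ends C v ≠ 0) ↔
      ∃ T : Finset E, LabGraph.IsSpanningTree ends T ∧
        ∃ e : E, e ∉ T ∧ ((ends e).1 = v ∨ (ends e).2 = v) := by
  classical
  constructor
  · rintro ⟨C, hC, hv⟩
    obtain ⟨e, he, hev⟩ := (endCount_ne_zero_iff C v).1 hv
    obtain ⟨T, h1, h2, h3⟩ := exists_spanning_acyclic (univ.erase e) fun a b =>
      conn_erase_of_circuit hC (subset_univ _) he (conn_univ hG a b)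
    exact ⟨T, (isSpanningTree_iff T).2 ⟨hG.1, h3, h2⟩, e, fun h => notMem_erase e univ (h1 h), hev⟩
  · rintro ⟨T, hT, e, he, hev⟩
    obtain ⟨-, hc, ha⟩ := (isSpanningTree_iff T).1 hT
    obtain ⟨γ, g1, g2⟩ := exists_chain (hc (ends e).2 (ends e).1)
    obtain ⟨C, hC, hodd⟩ := exists_circuit_of_odd (ends := ends) (γ := γ + Pi.single e 1)
      (fun v => by rw [boundary_add, g2, boundary_single]; ring) (e := e) (by simp [g1 e he])
    have heC : e ∈ C := by
      by_contra hne
      refine ha C (fun f hf => ?_) hC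
      by_contra hfT
      have := hodd f hf
      have hfe : f ≠ e := fun h => hne (h ▸ hf)
      simp [g1 f hfT, hfe] at this
    exact ⟨C, hC, (endCount_ne_zero_iff C v).2 ⟨e, heC, hev⟩⟩

end Groth.Agent.LabG36
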