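import Groth.Agent.LabG36.Mult
import Groth.Agent.LabG36.Tree
import Groth.Agent.H98.Minors

/-!
The order of the component group of a pair `(G, β)` as a weighted sum over spanning trees.
-/

universe u

namespace Groth.Agent.LabG36

open Finset LabGraph

set_option linter.unusedSectionVars false

variable {V E : Type u} [Fintype V] [Fintype E] [DecidableEq V] [DecidableEq E] {ends : E → V × V}

/-- Cauchy–Binet for `B W Bᵀ`. -/
theorem det_weighted_gram {ι κ : Type*} [Fintype ι] [DecidableEq ι] [Fintype κ] [DecidableEq κ]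
    (B : Matrix ι κ ℤ) (c : κ → ℤ) (ε : Finset κ → ℤ)
    (hε : ∀ p : ι → κ, Function.Injective p → (B.submatrix id p).det ^ 2 = ε (univ.image p)) :
    (B * Matrix.diagonal c * B.transpose).det =
      ∑ T ∈ univ.powersetCard (Fintype.card ι), (∏ x ∈ T, c x) * ε T := by
  classical
  set eι := Fintype.equivFin ι
  set eκ := Fintype.equivFin κ
  rw [← Matrix.det_submatrix_equiv_self eι.symm (B * Matrix.diagonal c * B.transpose), Matrix.mul_assoc,
    ← Matrix.submatrix_mul_equiv B (Matrix.diagonal c * B.transpose) eι.symm eκ.symm eι.symm, H98.det_mul_eq_sum_minors]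
  refine sum_bij (fun S _ => S.1.map eκ.symm.toEmbedding) (fun S _ => ?_) (fun S _ S' _ h => ?_) (fun T hT => ?_)
    fun S _ => ?_
  · simp [mem_powersetCard, S.2]
  · exact Subtype.ext (map_injective _ h)
  · refine ⟨⟨T.map eκ.toEmbedding, by simpa [mem_powersetCard] using hT⟩, mem_univ _, ?_⟩
    simp [map_map]
  · set o := S.1.orderEmbOfFin S.2
    have hp : Function.Injective fun i : ι => eκ.symm (o (eι i)) :=
      eκ.symm.injective.comp (o.injective.comp eι.injective)
    have himg : univ.image (fun i : ι => eκ.symm (o (eι i))) = S.1.map eκ.symm.toEmbedding := by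
      ext x
      constructor
      · intro hx
        obtain ⟨i, -, rfl⟩ := mem_image.1 hx
        exact mem_map_of_mem _ (orderEmbOfFin_mem _ _ _)
      · intro hx
        obtain ⟨y, hy, rfl⟩ := mem_map.1 hx
        rw [← mem_coe, ← range_orderEmbOfFin S.1 S.2] at hy
        obtain ⟨j, rfl⟩ := hy
        exact mem_image.2 ⟨eι.symm j, mem_univ _, by simp [o]⟩
    rw [← himg, ← hε _ hp, prod_image fun a _ b _ hab => hp hab]
    set N := B.submatrix id fun i : ι => eκ.symm (o (eι i)) with hN
    have h1 : ((B.submatrix eι.symm eκ.symm).submatrix id o).det = N.det := by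
      rw [← Matrix.det_submatrix_equiv_self eι.symm N]
      congr 1
      ext i j; simp [N]
    have h2 : (((Matrix.diagonal c * B.transpose).submatrix eκ.symm eι.symm).submatrix o id).det =
        (∏ i, c (eκ.symm (o (eι i)))) * N.det := by
      rw [← Matrix.det_transpose N, ← Matrix.det_mul_column]
      rw [← Matrix.det_submatrix_equiv_self eι.symm (Matrix.of _)]
      congr 1
      ext i j; simp [N, Matrix.diagonal_mul]
    rw [h1, h2]
    ring

variable (ends) in
/-- The reduced oriented incidence matrix, the row of `v₀` deleted. -/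
def incM (v₀ : V) : Matrix {v : V // v ≠ v₀} E ℤ := fun v e =>
  (if (ends e).2 = v.1 then 1 else 0) - (if (ends e).1 = v.1 then 1 else 0)

variable (ends) in
/-- Potentials vanishing at `v₀`, evaluated on the edges `p`. -/
theorem incM_vecMul (v₀ : V) {κ : Type*} (p : κ → E) (φ : V → ℤ) (h0 : φ v₀ = 0) (j : κ) :
    ∑ v : {v : V // v ≠ v₀}, φ v.1 * incM ends v₀ v (p j) = dd ends φ (p j) := by
  show ∑ v : {v : V // v ≠ v₀}, φ v.1 *
    ((if (ends (p j)).2 = v.1 then 1 else 0) - (if (ends (p j)).1 = v.1 then 1 else 0)) = dd ends φ (p j)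
  rw [← Finset.sum_subtype (univ.erase v₀) (by simp)
    fun v => φ v * ((if (ends (p j)).2 = v then 1 else 0) - (if (ends (p j)).1 = v then 1 else 0)),
    sum_erase _ (by simp [h0])]
  simp [mul_sub, sum_sub_distrib, dd]

theorem conn_of_acyclic (v₀ : V) (p : {v : V // v ≠ v₀} → E) (hp : Function.Injective p)
    (hA : Acyclic ends (univ.image p)) :
    ((incM ends v₀).submatrix id p).det ^ 2 = 1 ∧ ∀ a, Conn ends (univ.image p) a v₀ := by
  classical
  set N := (incM ends v₀).submatrix id p
  have happ : ∀ φ : V → ℤ, φ v₀ = 0 → N.transpose.mulVec (fun v => φ v.1) = fun j => dd ends φ (p j) := fun φ h0 =>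
    funext fun j => by rw [← incM_vecMul ends v₀ p φ h0 j]; simp [Matrix.mulVec, dotProduct, N, mul_comm]
  have hsurj : Function.Surjective N.transpose.mulVec := by
    intro x
    obtain ⟨φ, hφ⟩ := hA.exists_potential (Function.extend p x 0)
    refine ⟨fun v => φ v.1 - φ v₀, ?_⟩
    rw [happ (fun v => φ v - φ v₀) (sub_self _)]
    funext j
    have := hφ (p j) (mem_image_of_mem p (mem_univ j))
    rw [hp.extend_apply] at this
    rw [← this]; simp [dd]
  have hu := Matrix.mulVec_surjective_iff_isUnit.1 hsurj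
  have hd : IsUnit N.det := by
    have := (Matrix.isUnit_iff_isUnit_det _).1 hu
    rwa [Matrix.det_transpose] at this
  refine ⟨Int.isUnit_sq hd, fun a => by_contra fun ha => ?_⟩
  let φ : V → ℤ := fun v => if Conn ends (univ.image p) a v then 1 else 0
  have h0 : φ v₀ = 0 := if_neg ha
  have hzero : N.transpose.mulVec (fun v => φ v.1) = 0 := by
    rw [happ φ h0]
    funext j
    have hc := Conn.of_edge (ends := ends) (mem_image_of_mem p (mem_univ j))
    have : Conn ends (univ.image p) a (ends (p j)).1 ↔ Conn ends (univ.image p) a (ends (p j)).2 :=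
      ⟨fun h => h.trans hc, fun h => h.trans hc.symm⟩
    simp [dd, φ, this]
  have h2 := (Matrix.mulVec_injective_of_isUnit hu) (hzero.trans (Matrix.mulVec_zero _).symm)
  have hne : a ≠ v₀ := fun h => ha (by rw [h]; exact Conn.refl _)
  have := congrFun h2 ⟨a, hne⟩
  simp [φ, Conn.refl] at this

theorem det_eq_zero_of_not_acyclic (v₀ : V) (p : {v : V // v ≠ v₀} → E) (hp : Function.Injective p)
    (hA : ¬ Acyclic ends (univ.image p)) : ((incM ends v₀).submatrix id p).det = 0 := by
  classical
  simp only [Acyclic, not_forall, not_not] at hA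
  obtain ⟨C, hC, hcirc⟩ := hA
  obtain ⟨e, he⟩ := hcirc.1
  obtain ⟨γ, g1, g2, g3⟩ := IsCircuit.exists_cycle hcirc he
  rw [← Matrix.exists_mulVec_eq_zero_iff]
  refine ⟨γ ∘ p, fun h => ?_, ?_⟩
  · obtain ⟨i, -, hi⟩ := mem_image.1 (hC he)
    have := congrFun h i
    simp [Function.comp, hi, g3] at this
  · funext v
    show ∑ j, incM ends v₀ v (p j) * γ (p j) = 0
    rw [← sum_image (f := fun e => incM ends v₀ v e * γ e) (g := p) (s := univ) fun a _ b _ h => hp h]
    rw [sum_subset (subset_univ _) fun x _ hx => by simp [g1 x fun h => hx (hC h)], ← g2 v.1]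
    refine sum_congr rfl fun x _ => ?_
    simp only [incM]
    split_ifs <;> ring

open Classical in
/-- Squared minors of the reduced incidence matrix detect spanning trees. -/
theorem minor_sq (v₀ : V) (p : {v : V // v ≠ v₀} → E) (hp : Function.Injective p) :
    ((incM ends v₀).submatrix id p).det ^ 2 =
      if IsSpanningTree ends (univ.image p) then 1 else 0 := by
  by_cases hA : Acyclic ends (univ.image p)
  · obtain ⟨h1, h2⟩ := conn_of_acyclic v₀ p hp hA
    rw [h1, if_pos ((isSpanningTree_iff _).2 ⟨⟨v₀⟩, fun a b => (h2 a).trans (h2 b).symm, hA⟩)]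
  · rw [det_eq_zero_of_not_acyclic v₀ p hp hA, if_neg fun h => hA ((isSpanningTree_iff _).1 h).2.2]
    rfl

theorem card_of_spanningTree (v₀ : V) {T : Finset E} (hT : IsSpanningTree ends T) :
    T.card = Fintype.card {v : V // v ≠ v₀} := by
  classical
  obtain ⟨-, hc, hA⟩ := (isSpanningTree_iff T).1 hT
  let L : ({v : V // v ≠ v₀} → ℤ) →ₗ[ℤ] (T → ℤ) :=
    { toFun := fun φ e => dd ends (fun v => if h : v = v₀ then 0 else φ ⟨v, h⟩) e.1
      map_add' := fun φ ψ => funext fun e => by simp only [dd, Pi.add_apply]; split_ifs <;> ring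
      map_smul' := fun c φ => funext fun e => by
        simp only [dd, Pi.smul_apply, smul_eq_mul, RingHom.id_apply]; split_ifs <;> ring }
  have hinj : Function.Injective L := by
    rw [injective_iff_map_eq_zero]
    intro φ hφ
    funext v
    have := eq_of_conn (φ := fun v => if h : v = v₀ then 0 else φ ⟨v, h⟩) (fun e he => by
      have := congrFun hφ ⟨e, he⟩
      simp only [L, LinearMap.coe_mk, AddHom.coe_mk, Pi.zero_apply, dd, sub_eq_zero] at this
      exact this.symm) (hc v.1 v₀)
    simpa [v.2] using this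
  have hsurj : Function.Surjective L := by
    intro x
    obtain ⟨φ, hφ⟩ := hA.exists_potential fun e => if h : e ∈ T then x ⟨e, h⟩ else 0
    refine ⟨fun v => φ v.1 - φ v₀, funext fun e => ?_⟩
    have := hφ e.1 e.2
    rw [dif_pos e.2] at this
    rw [← this]
    simp only [L, LinearMap.coe_mk, AddHom.coe_mk, dd]
    split_ifs with h1 h2 h2 <;> simp_all
  have := (LinearEquiv.ofBijective L ⟨hinj, hsurj⟩).finrank_eq
  simp [Module.finrank_pi] at this
  simp [this.symm]

theorem endCount_eq_nbrCount {T : Finset E} (hA : Acyclic ends T) (v : V) :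
    endCount ends T v = nbrCount ends T v := by
  classical
  have hloop : ∀ e ∈ T, (ends e).1 ≠ (ends e).2 := by
    intro e he h
    have := hA.cycle_eq_zero (γ := Pi.single e 1) (fun f hf => by
      have : f ≠ e := fun hh => hf (hh ▸ he)
      simp [this]) fun w => by simp [boundary_single, h]
    simpa using congrFun this e
  have hpar : ∀ e ∈ T, ∀ f ∈ T, ∀ a b, (ends e = (a, b) ∨ ends e = (b, a)) → (ends f = (a, b) ∨ ends f = (b, a)) → e = f := by
    intro e he f hf a b h1 h2
    by_contra hne
    obtain ⟨c, hc⟩ : ∃ c : ℤ, ∀ w, boundary ends (Pi.single e (1 : ℤ) + Pi.single f c) w = 0 := by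
      rcases h1 with h1 | h1 <;> rcases h2 with h2 | h2
      · exact ⟨-1, fun w => by rw [boundary_add, boundary_single, boundary_single, h1, h2]; split_ifs <;> simp⟩
      · exact ⟨1, fun w => by rw [boundary_add, boundary_single, boundary_single, h1, h2]; ring⟩
      · exact ⟨1, fun w => by rw [boundary_add, boundary_single, boundary_single, h1, h2]; ring⟩
      · exact ⟨-1, fun w => by rw [boundary_add, boundary_single, boundary_single, h1, h2]; split_ifs <;> simp⟩
    have := hA.cycle_eq_zero (fun g hg => by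
      have a1 : g ≠ e := fun hh => hg (hh ▸ he)
      have a2 : g ≠ f := fun hh => hg (hh ▸ hf)
      simp [a1, a2]) hc
    simpa [hne] using congrFun this e
  have h1 : endCount ends T v = (T.filter fun e => (ends e).1 = v ∨ (ends e).2 = v).card := by
    rw [endCount, card_filter]
    refine sum_congr rfl fun e he => ?_
    have := hloop e he
    split_ifs with a b c <;> simp_all
  rw [h1, nbrCount]
  refine card_bij (fun e _ => if (ends e).1 = v then (ends e).2 else (ends e).1) (fun e he => ?_)
    (fun e he f hf h => ?_) fun w hw => ?_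
  · obtain ⟨heT, hev⟩ := mem_filter.1 he
    have := hloop e heT
    refine mem_filter.2 ⟨mem_univ _, ?_⟩
    split_ifs with h
    · exact ⟨fun hh => this (h.trans hh.symm), e, heT, Or.inl (Prod.ext h rfl)⟩
    · exact ⟨h, e, heT, Or.inr (Prod.ext rfl (hev.resolve_left h))⟩
  · obtain ⟨heT, hev⟩ := mem_filter.1 he
    obtain ⟨hfT, hfv⟩ := mem_filter.1 hf
    refine hpar e heT f hfT v (if (ends e).1 = v then (ends e).2 else (ends e).1) ?_ ?_
    · split_ifs with a
      · exact Or.inl (Prod.ext a rfl)
      · exact Or.inr (Prod.ext rfl (hev.resolve_left a))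
    · rw [h]
      split_ifs with a
      · exact Or.inl (Prod.ext a rfl)
      · exact Or.inr (Prod.ext rfl (hfv.resolve_left a))
  · obtain ⟨-, hne, e, heT, h⟩ := mem_filter.1 hw
    refine ⟨e, mem_filter.2 ⟨heT, ?_⟩, ?_⟩
    · rcases h with h | h <;> simp [h]
    · rcases h with h | h <;> simp [h, hne]

/-- Weighted matrix-tree theorem. -/
theorem matrix_tree (v₀ : V) (c : E → ℤ) [DecidablePred fun T : Finset E => IsSpanningTree ends T] :
    (incM ends v₀ * Matrix.diagonal c * (incM ends v₀).transpose).det =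
      ∑ T ∈ univ.powerset.filter (fun T : Finset E => IsSpanningTree ends T), ∏ e ∈ T, c e := by
  classical
  rw [det_weighted_gram (incM ends v₀) c (fun T => if IsSpanningTree ends T then 1 else 0)
    (fun p hp => by rw [minor_sq v₀ p hp]; congr)]
  simp only [mul_ite, mul_one, mul_zero]
  rw [← sum_filter]
  refine sum_congr ?_ fun _ _ => rfl
  ext T
  simp only [mem_filter, mem_powersetCard, mem_powerset, subset_univ, true_and]
  exact ⟨fun h => h.2, fun h => ⟨card_of_spanningTree v₀ h, h⟩⟩

variable {β : V → ℤ}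

theorem laplacian_eq (hβ : IsMultFn ends β) (v₀ : V) :
    incM ends v₀ * Matrix.diagonal (fun e => β (ends e).1 * β (ends e).2) * (incM ends v₀).transpose =
      Matrix.diagonal (fun v => β v.1) * (-mfMatrix ends β).submatrix Subtype.val Subtype.val *
        Matrix.diagonal (fun v : {v : V // v ≠ v₀} => β v.1) := by
  classical
  ext a b
  rw [Matrix.mul_apply, Matrix.mul_diagonal, Matrix.diagonal_mul]
  simp only [Matrix.mul_diagonal, Matrix.transpose_apply, Matrix.submatrix_apply, Matrix.neg_apply, incM]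
  by_cases hab : a.1 = b.1
  · rw [← hab]
    have h0 := mfMatrix_diag hβ a.1
    calc ∑ e, ((if (ends e).2 = a.1 then 1 else 0) - (if (ends e).1 = a.1 then (1 : ℤ) else 0)) *
          (β (ends e).1 * β (ends e).2) * ((if (ends e).2 = a.1 then 1 else 0) - (if (ends e).1 = a.1 then 1 else 0))
        = β a.1 * ∑ w ∈ univ.erase a.1, β w * (edgeMult ends a.1 w : ℤ) := by
          have hm : ∀ w ∈ univ.erase a.1, β a.1 * (β w * (edgeMult ends a.1 w : ℤ)) = ∑ e, β a.1 * (β w *
              ((if (ends e).1 = a.1 ∧ (ends e).2 = w then 1 else 0) + (if (ends e).1 = w ∧ (ends e).2 = a.1 then 1 else 0))) :=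
            fun w hw => by rw [edgeMult_eq_sum (ne_of_mem_erase hw).symm, mul_sum, mul_sum]
          rw [mul_sum, sum_congr rfl hm, sum_comm]
          refine sum_congr rfl fun e _ => ?_
          simp only [mul_add, sum_add_distrib, mul_ite, mul_one, mul_zero, ite_and]
          by_cases p : (ends e).1 = a.1 <;> by_cases q : (ends e).2 = a.1 <;>
            simp [p, q, sum_ite_eq', sum_ite_eq, mul_comm]
      _ = _ := by linear_combination β a.1 * h0
  · rw [mfMatrix_off hab, edgeMult_eq_sum hab, mul_neg, neg_mul, mul_sum, sum_mul, ← sum_neg_distrib]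
    refine sum_congr rfl fun e _ => ?_
    by_cases p : (ends e).1 = a.1 <;> by_cases q : (ends e).2 = a.1 <;> by_cases r : (ends e).1 = b.1 <;>
      by_cases s : (ends e).2 = b.1 <;> simp_all <;> ring

/-- The index of `im α` in `ker β` is the absolute determinant of `-α + u uᵀ` when `u · β₀ = 1`. -/
theorem card_compGrp (hβ : IsMultFn ends β) (g : ℤ) (hg : 0 < g) (β₀ u : V → ℤ) (hβ₀ : ∀ v, β v = g * β₀ v)
    (hu : ∑ v, u v * β₀ v = 1) (M : Matrix V V ℤ) (hM : M = -mfMatrix ends β + Matrix.of fun a b => u a * u b)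
    (hdet : M.det ≠ 0) :
    Nat.card (CompGrp ends β) = M.det.natAbs := by
  classical
  have hα : ∀ v, ∑ w, mfMatrix ends β v w * β₀ w = 0 := fun v => by
    have := mfMatrix_mul_beta hβ v
    simp only [hβ₀] at this
    rw [sum_congr rfl fun w _ => show mfMatrix ends β v w * (g * β₀ w) = g * (mfMatrix ends β v w * β₀ w) by ring,
      ← mul_sum] at this
    exact (mul_eq_zero.1 this).resolve_left hg.ne'
  have hMx : ∀ x, Matrix.mulVecLin M x = -Matrix.mulVecLin (mfMatrix ends β) x + (∑ w, u w * x w) • u := fun x => by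
    funext v
    simp only [mulVec_apply', hM, Pi.add_apply, Pi.neg_apply, Pi.smul_apply, smul_eq_mul, Matrix.mulVecLin_apply,
      Matrix.mulVec, dotProduct, Matrix.add_apply, Matrix.neg_apply, Matrix.of_apply, add_mul, sum_add_distrib,
      neg_mul, sum_neg_distrib, sum_mul]
    congr 1
    exact sum_congr rfl fun w _ => by ring
  have hMb : Matrix.mulVecLin M β₀ = u := by
    rw [hMx, hu, one_smul]
    funext v
    rw [Pi.add_apply, Pi.neg_apply, mulVec_apply', hα, neg_zero, zero_add]
  have hbeta : ∀ x : V → ℤ, betaHom β x = g * ∑ v, x v * β₀ v := fun x => by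
    simp only [betaHom_apply, hβ₀, mul_sum]
    exact sum_congr rfl fun v _ => by ring
  set R := LinearMap.range (Matrix.mulVecLin M)
  let f : LinearMap.ker (betaHom β) →ₗ[ℤ] (V → ℤ) ⧸ R := R.mkQ.comp (LinearMap.ker (betaHom β)).subtype
  have hfs : Function.Surjective f := by
    intro q
    obtain ⟨y, rfl⟩ := Submodule.Quotient.mk_surjective _ q
    refine ⟨⟨y - (∑ v, y v * β₀ v) • u, ?_⟩, ?_⟩
    · rw [LinearMap.mem_ker, hbeta]
      simp only [Pi.sub_apply, Pi.smul_apply, smul_eq_mul, sub_mul, sum_sub_distrib, mul_assoc, ← mul_sum, hu]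
      simp
    · refine (Submodule.Quotient.eq R).2 ?_
      rw [Submodule.subtype_apply, sub_sub_cancel_left]
      exact neg_mem (Submodule.smul_mem _ _ ⟨β₀, hMb⟩)
  have hfk : LinearMap.ker f = (LinearMap.range (Matrix.mulVecLin (mfMatrix ends β))).comap
      (LinearMap.ker (betaHom β)).subtype := by
    ext y
    simp only [LinearMap.mem_ker, f, LinearMap.comp_apply, Submodule.mkQ_apply, Submodule.Quotient.mk_eq_zero,
      Submodule.mem_comap, Submodule.subtype_apply]
    constructor
    · rintro ⟨x, hx⟩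
      have h0 : betaHom β (y : V → ℤ) = 0 := y.2
      rw [← hx, hMx, map_add, map_neg, betaHom_mulVec hβ, neg_zero, zero_add, map_smul, hbeta, hu, mul_one,
        smul_eq_mul, mul_eq_zero] at h0
      rw [hMx, h0.resolve_right hg.ne', zero_smul, add_zero] at hx
      exact ⟨-x, by rw [map_neg, hx]⟩
    · rintro ⟨x, hx⟩
      refine ⟨(∑ w, u w * x w) • β₀ - x, ?_⟩
      rw [map_sub, map_smul, hMb, hMx, ← hx]
      abel
  have e1 : Nat.card (CompGrp ends β) = Nat.card ((V → ℤ) ⧸ R) :=
    Nat.card_congr (((Submodule.quotEquivOfEq _ _ hfk).symm.trans (f.quotKerEquivOfSurjective hfs)).toEquiv)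
  have hinj : Function.Injective (Matrix.mulVecLin M) := by
    rw [injective_iff_map_eq_zero]
    intro x hx
    by_contra hne
    exact hdet (Matrix.exists_mulVec_eq_zero_iff.1 ⟨x, hne, hx⟩)
  rw [e1, ← Submodule.natAbs_det_equiv R (LinearEquiv.ofInjective _ hinj)]
  congr 1
  rw [show R.subtype ∘ₗ AddMonoidHom.toIntLinearMap ((LinearEquiv.ofInjective _ hinj : (V → ℤ) ≃ₗ[ℤ] R) : (V → ℤ) →+ R)
    = Matrix.toLin' M from LinearMap.ext fun x => rfl, LinearMap.det_toLin']

/-- A congruence reducing `A + u uᵀ` to a principal minor of `A` when `A β₀ = 0` and `u · β₀ = 1`. -/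
theorem det_add_outer {ι : Type*} [Fintype ι] [DecidableEq ι] (A : Matrix ι ι ℤ) (hA : ∀ a b, A a b = A b a)
    (β₀ u : ι → ℤ) (hA0 : ∀ a, ∑ b, A a b * β₀ b = 0) (hu : ∑ b, u b * β₀ b = 1) (v₀ : ι) :
    β₀ v₀ ^ 2 * (A + Matrix.of fun a b => u a * u b).det =
      (A.submatrix (Subtype.val : {v // v ≠ v₀} → ι) Subtype.val).det := by
  classical
  set M := A + Matrix.of fun a b => u a * u b with hM
  set P : Matrix ι ι ℤ := (1 : Matrix ι ι ℤ).updateCol v₀ β₀ with hP
  set Q : Matrix ι ι ℤ := (1 : Matrix ι ι ℤ).updateRow v₀ (fun x => if x = v₀ then 1 else -u x) with hQ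
  have hdP : P.det = β₀ v₀ := by
    have h := Matrix.det_updateCol_sum (1 : Matrix ι ι ℤ) v₀ β₀
    rw [show (fun k => ∑ i, β₀ i • (1 : Matrix ι ι ℤ) k i) = β₀ from funext fun k => by simp [Matrix.one_apply],
      Matrix.det_one, smul_eq_mul, mul_one] at h
    exact h
  have hdQ : Q.det = 1 := by
    have h := Matrix.det_updateRow_sum (1 : Matrix ι ι ℤ) v₀ (fun x => if x = v₀ then 1 else -u x)
    rw [show (∑ k, (if k = v₀ then 1 else -u k) • (1 : Matrix ι ι ℤ) k) = (fun x => if x = v₀ then 1 else -u x) from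
      funext fun x => by
        simp only [Finset.sum_apply, Pi.smul_apply, smul_eq_mul, Matrix.one_apply, mul_ite, mul_one, mul_zero]
        simp] at h
    simpa using h
  have hT : ∀ a x, (P * Q) a x = if x = v₀ then β₀ a else (if a = x then 1 else 0) - u x * β₀ a := by
    intro a x
    rw [Matrix.mul_apply, ← add_sum_erase univ _ (mem_univ v₀)]
    have : ∑ k ∈ univ.erase v₀, P a k * Q k x = ∑ k ∈ univ.erase v₀, if a = k ∧ k = x then 1 else 0 :=
      sum_congr rfl fun k hk => by
        simp [P, Q, ne_of_mem_erase hk, Matrix.one_apply]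
        split_ifs <;> simp_all
    rw [this]
    by_cases hx : x = v₀
    · subst hx
      simp only [P, Q, Matrix.updateCol_self, Matrix.updateRow_self, if_pos]
      rw [sum_eq_zero fun k hk => if_neg fun h => ne_of_mem_erase hk h.2]
      simp
    · simp only [P, Q, Matrix.updateCol_self, Matrix.updateRow_self, if_neg hx]
      rw [sum_eq_single x (fun k _ hk => if_neg fun h => hk h.2) (fun h => absurd (mem_erase.2 ⟨hx, mem_univ x⟩) h)]
      simp only [and_true]
      ring
  have hMb : ∀ a, ∑ b, M a b * β₀ b = u a := fun a => by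
    simp [hM, add_mul, sum_add_distrib, hA0, mul_assoc, ← mul_sum, hu]
  have hMT : ∀ a y, (M * (P * Q)) a y = if y = v₀ then u a else A a y := by
    intro a y
    simp only [Matrix.mul_apply (M := M), hT]
    by_cases hy : y = v₀
    · simp [hy, hMb]
    · simp only [if_neg hy, mul_sub, sum_sub_distrib, mul_ite, mul_one, mul_zero, sum_ite_eq', mem_univ, if_true]
      rw [sum_congr rfl fun b _ => show M a b * (u y * β₀ b) = u y * (M a b * β₀ b) by ring, ← mul_sum, hMb]
      simp [hM]; ring
  have hN : ∀ x y, ((P * Q).transpose * (M * (P * Q))) x y =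
      if x = v₀ then (if y = v₀ then 1 else 0) else (if y = v₀ then 0 else A x y) := by
    intro x y
    simp only [Matrix.mul_apply (M := (P * Q).transpose), Matrix.transpose_apply, hT, hMT]
    have s1 : ∑ a, β₀ a * A a y = 0 := by rw [← hA0 y]; exact sum_congr rfl fun a _ => by rw [hA a y]; ring
    have s2 : ∑ a, β₀ a * u a = 1 := by rw [← hu]; exact sum_congr rfl fun a _ => mul_comm _ _
    by_cases hx : x = v₀ <;> by_cases hy : y = v₀
    · simp [hx, hy, s2]
    · simp [hx, hy, s1]
    · simp only [if_neg hx, if_pos hy, sub_mul, sum_sub_distrib, ite_mul, one_mul, zero_mul, sum_ite_eq', mem_univ,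
        if_true, mul_assoc, ← mul_sum, s2]
      ring
    · simp only [if_neg hx, if_neg hy, sub_mul, sum_sub_distrib, ite_mul, one_mul, zero_mul, sum_ite_eq', mem_univ,
        if_true, mul_assoc, ← mul_sum, s1]
      ring
  have h := Matrix.twoBlockTriangular_det ((P * Q).transpose * (M * (P * Q))) (fun x => x ≠ v₀)
    (fun i hi j hj => by rw [hN, if_pos (not_not.1 hi), if_neg hj])
  rw [Matrix.det_mul, Matrix.det_mul, Matrix.det_transpose, Matrix.det_mul, hdP, hdQ] at h
  have hb1 : ((P * Q).transpose * (M * (P * Q))).toSquareBlockProp (fun x => x ≠ v₀) =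
      A.submatrix Subtype.val Subtype.val := by
    ext x y
    rw [Matrix.toSquareBlockProp_def, Matrix.of_apply, hN, if_neg x.2, if_neg y.2]; rfl
  have hb2 : ((P * Q).transpose * (M * (P * Q))).toSquareBlockProp (fun x => ¬ x ≠ v₀) = 1 := by
    ext x y
    have hx := not_not.1 x.2
    have hy := not_not.1 y.2
    rw [Matrix.toSquareBlockProp_def, Matrix.of_apply, hN, if_pos hx, if_pos hy, Subtype.ext (hx.trans hy.symm),
      Matrix.one_apply_eq]
  rw [hb1, hb2, Matrix.det_one] at h
  linarith

open Classical in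
theorem card_compGrp_eq (hβ : IsMultFn ends β) (hG : Connected ends) :
    (Nat.card (CompGrp ends β) : ℚ) =
      ((univ.gcd β : ℤ) : ℚ) ^ 2 *
        ∑ T ∈ univ.powerset.filter (fun T : Finset E => IsSpanningTree ends T),
          ∏ v : V, ((β v : ℚ) ^ ((nbrCount ends T v : ℤ) - 2)) := by
  obtain ⟨v₀⟩ := hG.1
  set g := univ.gcd β with hg
  have hg0 : 0 < g := by
    refine lt_of_le_of_ne ?_ fun h => ?_
    · exact (Int.nonneg_iff_normalize_eq_self _).1 Finset.normalize_gcd
    · have := Finset.gcd_eq_zero_iff.1 h.symm v₀ (mem_univ _)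
      exact (hβ v₀).1.ne' this
  choose β₀ hβ₀ using fun v => (Finset.gcd_dvd (f := β) (mem_univ v) : g ∣ β v)
  obtain ⟨a, ha⟩ := Finset.gcd_eq_sum_mul univ β
  rw [← hg] at ha
  have hu : ∑ v, a v * β₀ v = 1 := by
    refine mul_left_cancel₀ hg0.ne' ?_
    rw [mul_one]
    conv_rhs => rw [ha]
    rw [mul_sum]
    exact sum_congr rfl fun v _ => by rw [hβ₀ v]; ring
  have hα : ∀ v, ∑ w, (-mfMatrix ends β) v w * β₀ w = 0 := fun v => by
    have := mfMatrix_mul_beta hβ v
    rw [sum_congr rfl fun w _ => show mfMatrix ends β v w * β w = g * (mfMatrix ends β v w * β₀ w) by rw [hβ₀ w]; ring,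
      ← mul_sum] at this
    simp [(mul_eq_zero.1 this).resolve_left hg0.ne']
  set M := -mfMatrix ends β + Matrix.of fun x y => a x * a y with hM
  have h1 := det_add_outer (-mfMatrix ends β) (fun x y => by simp [mfMatrix_symm x y]) β₀ a hα hu v₀
  rw [← hM] at h1
  set St := ∑ T ∈ univ.powerset.filter (fun T : Finset E => IsSpanningTree ends T), ∏ e ∈ T, β (ends e).1 * β (ends e).2 with hS
  have h2 : St = (∏ v : {v : V // v ≠ v₀}, β v.1) ^ 2 * (β₀ v₀ ^ 2 * M.det) := by
    rw [h1, hS, ← matrix_tree v₀, laplacian_eq hβ, Matrix.det_mul, Matrix.det_mul, Matrix.det_diagonal]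
    ring
  have hP : (∏ v : {v : V // v ≠ v₀}, β v.1) * β v₀ = ∏ v, β v := by
    rw [← Finset.prod_subtype (univ.erase v₀) (by simp) β, prod_erase_mul _ _ (mem_univ _)]
  have hSpos : 0 < St := by
    obtain ⟨T, hT⟩ := exists_spanningTree hG
    exact sum_pos (fun S _ => prod_pos fun e _ => mul_pos (hβ _).1 (hβ _).1)
      ⟨T, mem_filter.2 ⟨mem_powerset.2 (subset_univ _), hT⟩⟩
  have h3 : g ^ 2 * St = (∏ v, β v) ^ 2 * M.det := by
    rw [h2, ← hP, hβ₀ v₀]; ring
  have hdet : 0 < M.det := by
    have h5 : 0 < (∏ v, β v) ^ 2 * M.det := h3 ▸ mul_pos (pow_pos hg0 2) hSpos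
    exact pos_of_mul_pos_right h5 (sq_nonneg _)
  rw [card_compGrp hβ g hg0 β₀ a hβ₀ hu M hM hdet.ne']
  have hpow : ∀ T ∈ univ.powerset.filter (fun T : Finset E => IsSpanningTree ends T),
      ∏ v : V, ((β v : ℚ) ^ ((nbrCount ends T v : ℤ) - 2)) =
        ((∏ e ∈ T, β (ends e).1 * β (ends e).2 : ℤ) : ℚ) / ((∏ v, β v : ℤ) : ℚ) ^ 2 := by
    intro T hT
    have hA := ((isSpanningTree_iff T).1 (mem_filter.1 hT).2).2.2
    have hprod : ∏ v, β v ^ nbrCount ends T v = ∏ e ∈ T, β (ends e).1 * β (ends e).2 := by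
      simp only [← endCount_eq_nbrCount hA, endCount, ← prod_pow_eq_pow_sum]
      rw [prod_comm]
      refine prod_congr rfl fun e _ => ?_
      simp only [pow_add, prod_mul_distrib, pow_ite, pow_zero, pow_one, prod_ite_eq, mem_univ, if_true]
    rw [← hprod]
    push_cast
    rw [← prod_pow, ← prod_div_distrib]
    refine prod_congr rfl fun v _ => ?_
    rw [zpow_sub₀ (by exact_mod_cast (hβ v).1.ne'), zpow_natCast]
    norm_cast
  rw [sum_congr rfl hpow, ← sum_div, ← Int.cast_sum, ← hS, ← mul_div_assoc, eq_div_iff, Nat.cast_natAbs,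
    abs_of_pos hdet]
  · exact_mod_cast (by rw [h3]; ring : M.det * (∏ v, β v) ^ 2 = g ^ 2 * St)
  · exact pow_ne_zero _ (by exact_mod_cast (prod_pos fun v _ => (hβ v).1).ne')

end Groth.Agent.LabG36
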