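import Groth.Agent.LabG36.Basic
import Groth.Prelude.Def_W4c2conddiscmodels

/-!
Multiplicity functions, the matrix of a pair, and their behaviour under contraction.
-/

universe u

namespace Groth.Agent.LabG36

open Finset LabGraph

set_option linter.unusedSectionVars false

variable {V E : Type u} [Fintype V] [Fintype E] [DecidableEq V] [DecidableEq E] {ends : E → V × V} {β : V → ℤ}

theorem edgeMult_comm (v w : V) : edgeMult ends v w = edgeMult ends w v := by
  simp only [edgeMult, or_comm]

theorem edgeMult_eq_sum {v w : V} (h : v ≠ w) :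
    (edgeMult ends v w : ℤ) = ∑ e, ((if (ends e).1 = v ∧ (ends e).2 = w then 1 else 0) +
      (if (ends e).1 = w ∧ (ends e).2 = v then 1 else 0)) := by
  rw [edgeMult, card_filter, Nat.cast_sum]
  refine sum_congr rfl fun e _ => ?_
  simp only [Prod.ext_iff]
  split_ifs with a b c b c <;> simp_all

theorem mfMatrix_off {v w : V} (h : v ≠ w) : mfMatrix ends β v w = edgeMult ends v w := if_neg h

theorem mfMatrix_symm (v w : V) : mfMatrix ends β v w = mfMatrix ends β w v := by
  by_cases h : v = w
  · rw [h]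
  · rw [mfMatrix_off h, mfMatrix_off (Ne.symm h), edgeMult_comm]

theorem mfMatrix_diag (hβ : IsMultFn ends β) (v : V) :
    β v * mfMatrix ends β v v = -∑ w ∈ univ.erase v, β w * (edgeMult ends v w : ℤ) := by
  obtain ⟨hp, c, hc⟩ := hβ v
  simp only [mfMatrix, if_pos, hc]
  rw [← mul_neg, Int.mul_ediv_cancel_left _ hp.ne']

theorem mfMatrix_mul_beta (hβ : IsMultFn ends β) (v : V) : ∑ w, mfMatrix ends β v w * β w = 0 := by
  have : ∑ w ∈ univ.erase v, mfMatrix ends β v w * β w = ∑ w ∈ univ.erase v, β w * (edgeMult ends v w : ℤ) :=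
    sum_congr rfl fun w hw => by rw [mfMatrix_off (ne_of_mem_erase hw).symm, mul_comm]
  rw [← add_sum_erase univ _ (mem_univ v), this, mul_comm, mfMatrix_diag hβ v]
  ring

theorem betaHom_apply (x : V → ℤ) : betaHom β x = ∑ v, x v * β v := by
  simp [betaHom, Fintype.linearCombination_apply]

theorem mulVec_apply' (x : V → ℤ) (v : V) :
    Matrix.mulVecLin (mfMatrix ends β) x v = ∑ w, mfMatrix ends β v w * x w := by
  simp [Matrix.mulVec, dotProduct]

theorem betaHom_mulVec (hβ : IsMultFn ends β) (x : V → ℤ) :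
    betaHom β (Matrix.mulVecLin (mfMatrix ends β) x) = 0 := by
  simp only [betaHom_apply, mulVec_apply', sum_mul]
  rw [sum_comm]
  refine sum_eq_zero fun w _ => ?_
  calc ∑ v, mfMatrix ends β v w * x w * β v = x w * ∑ v, mfMatrix ends β w v * β v := by
        rw [mul_sum]; exact sum_congr rfl fun v _ => by rw [mfMatrix_symm v w]; ring
    _ = 0 := by rw [mfMatrix_mul_beta hβ, mul_zero]

variable (ends) in
/-- The fibre of the contraction map over `c`. -/
noncomputable def fib (D : Finset E) (c : DualGr.CtrVert ends D) : Finset V :=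
  univ.filter fun v => DualGr.ctrMk ends D v = c

theorem mem_fib {D : Finset E} {c : DualGr.CtrVert ends D} {v : V} :
    v ∈ fib ends D c ↔ DualGr.ctrMk ends D v = c := by simp [fib]

theorem pushV_apply (D : Finset E) (g : V → ℤ) (c : DualGr.CtrVert ends D) :
    DualGr.pushV ends D g c = ∑ v ∈ fib ends D c, g v := rfl

theorem ctrFn_mk (D : Finset E) (hD : ∀ e ∈ D, β (ends e).1 = β (ends e).2) (v : V) :
    ctrFn ends D β (DualGr.ctrMk ends D v) = β v := by
  have key : ∀ a b, Relation.EqvGen (DualGr.CtrRel ends D) a b → β a = β b := by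
    intro a b h
    induction h with
    | rel a b h => obtain ⟨e, he, hh⟩ := h; have := hD e he; rw [hh] at this; exact this
    | refl a => rfl
    | symm a b _ ih => exact ih.symm
    | trans a b c _ _ i1 i2 => exact i1.trans i2
  exact key _ _ (Quotient.mk_out (s := DualGr.ctrSetoid ends D) v)

theorem edgeMult_ctr (D : Finset E) {c c' : DualGr.CtrVert ends D} (h : c ≠ c') :
    (edgeMult (DualGr.ctrEnds ends D) c c' : ℤ) =
      ∑ v ∈ fib ends D c, ∑ w ∈ fib ends D c', (edgeMult ends v w : ℤ) := by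
  classical
  have e1 : ∀ v ∈ fib ends D c, ∀ w ∈ fib ends D c', v ≠ w := fun v hv w hw hvw => by
    rw [mem_fib] at hv hw; exact h (hv ▸ hw ▸ congrArg _ hvw)
  rw [sum_congr rfl fun v hv => sum_congr rfl fun w hw => edgeMult_eq_sum (e1 v hv w hw), edgeMult_eq_sum h]
  let F : E → ℤ := fun e => (if DualGr.ctrMk ends D (ends e).1 = c ∧ DualGr.ctrMk ends D (ends e).2 = c' then 1 else 0) +
    (if DualGr.ctrMk ends D (ends e).1 = c' ∧ DualGr.ctrMk ends D (ends e).2 = c then 1 else 0)
  have hL : ∑ e : DualGr.CtrEdge D, F e.1 = ∑ e, F e := by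
    rw [← Finset.sum_filter_add_sum_filter_not univ (fun e => e ∉ D) F,
      ← Finset.sum_subtype (univ.filter fun e => e ∉ D) (p := fun e => e ∉ D) (by simp) F,
      sum_eq_zero (s := univ.filter fun e => ¬ e ∉ D), add_zero]
    intro e he
    simp only [mem_filter, not_not] at he
    have := DualGr.ctrMk_fst_eq_ctrMk_snd ends D he.2
    simp only [F]
    rw [if_neg fun hh : _ ∧ _ => h (hh.1.symm.trans (this.trans hh.2)),
      if_neg fun hh : _ ∧ _ => h (hh.2.symm.trans (this.symm.trans hh.1)), add_zero]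
  refine Eq.trans (sum_congr rfl fun e _ => rfl) (hL.trans ?_)
  refine Eq.symm (Eq.trans (sum_congr rfl fun v _ => sum_comm) (sum_comm.trans ?_))
  refine sum_congr rfl fun e _ => ?_
  simp [F, fib, sum_add_distrib, ite_and, sum_ite_eq, sum_ite_irrel, and_comm]

theorem ctr_sum_eq (hβ : IsMultFn ends β) (D : Finset E) (hD : ∀ e ∈ D, β (ends e).1 = β (ends e).2)
    (c : DualGr.CtrVert ends D) :
    ∑ c' ∈ univ.erase c, ctrFn ends D β c' * (edgeMult (DualGr.ctrEnds ends D) c c' : ℤ) =
      -(ctrFn ends D β c * ∑ v ∈ fib ends D c, ∑ w ∈ fib ends D c, mfMatrix ends β v w) := by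
  classical
  have h1 : ∀ v ∈ fib ends D c, ∑ c' ∈ univ.erase c, ∑ w ∈ fib ends D c', mfMatrix ends β v w * β w =
      -∑ w ∈ fib ends D c, mfMatrix ends β v w * β w := fun v _ => by
    have := mfMatrix_mul_beta hβ v
    rw [← sum_fiberwise univ (DualGr.ctrMk ends D) (fun w => mfMatrix ends β v w * β w),
      ← add_sum_erase univ _ (mem_univ c)] at this
    simp only [fib] at this ⊢
    linarith
  calc ∑ c' ∈ univ.erase c, ctrFn ends D β c' * (edgeMult (DualGr.ctrEnds ends D) c c' : ℤ)
      = ∑ c' ∈ univ.erase c, ∑ v ∈ fib ends D c, ∑ w ∈ fib ends D c', mfMatrix ends β v w * β w := by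
        refine sum_congr rfl fun c' hc' => ?_
        have hne := (ne_of_mem_erase hc').symm
        rw [edgeMult_ctr D hne, mul_sum]
        refine sum_congr rfl fun v hv => ?_
        rw [mul_sum]
        refine sum_congr rfl fun w hw => ?_
        rw [mem_fib] at hv hw
        have hvw : v ≠ w := fun hh => hne (hv ▸ hw ▸ congrArg _ hh)
        rw [mfMatrix_off hvw, ← hw, ctrFn_mk D hD]
        ring
    _ = -∑ v ∈ fib ends D c, ∑ w ∈ fib ends D c, mfMatrix ends β v w * β w := by
        rw [sum_comm, sum_congr rfl h1, sum_neg_distrib]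
    _ = _ := by
        rw [mul_sum]
        refine congrArg Neg.neg (sum_congr rfl fun v _ => ?_)
        rw [mul_sum]
        refine sum_congr rfl fun w hw => ?_
        rw [mem_fib] at hw
        rw [← hw, ctrFn_mk D hD]
        ring

theorem isMultFn_ctr (hβ : IsMultFn ends β) (D : Finset E) (hD : ∀ e ∈ D, β (ends e).1 = β (ends e).2) :
    IsMultFn (DualGr.ctrEnds ends D) (ctrFn ends D β) := fun c =>
  ⟨(hβ _).1, by rw [ctr_sum_eq hβ D hD c]; exact (dvd_mul_right _ _).neg_right⟩

theorem mfMatrix_ctr (hβ : IsMultFn ends β) (D : Finset E) (hD : ∀ e ∈ D, β (ends e).1 = β (ends e).2)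
    (c c' : DualGr.CtrVert ends D) :
    mfMatrix (DualGr.ctrEnds ends D) (ctrFn ends D β) c c' =
      ∑ v ∈ fib ends D c, ∑ w ∈ fib ends D c', mfMatrix ends β v w := by
  by_cases h : c = c'
  · subst h
    simp only [mfMatrix, if_pos]
    rw [ctr_sum_eq hβ D hD c, neg_neg, Int.mul_ediv_cancel_left _ (isMultFn_ctr hβ D hD c).1.ne']
    rfl
  · rw [mfMatrix_off h, edgeMult_ctr D h]
    refine sum_congr rfl fun v hv => sum_congr rfl fun w hw => (mfMatrix_off ?_).symm
    rw [mem_fib] at hv hw
    exact fun hh => h (hv ▸ hw ▸ congrArg _ hh)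

theorem mulVec_ctr (hβ : IsMultFn ends β) (D : Finset E) (hD : ∀ e ∈ D, β (ends e).1 = β (ends e).2)
    (y : DualGr.CtrVert ends D → ℤ) :
    Matrix.mulVecLin (mfMatrix (DualGr.ctrEnds ends D) (ctrFn ends D β)) y =
      DualGr.pushV ends D (Matrix.mulVecLin (mfMatrix ends β) fun v => y (DualGr.ctrMk ends D v)) := by
  classical
  funext c
  rw [mulVec_apply', pushV_apply]
  simp only [mulVec_apply', mfMatrix_ctr hβ D hD, sum_mul]
  rw [sum_comm]
  refine sum_congr rfl fun v _ => ?_
  rw [← sum_fiberwise univ (DualGr.ctrMk ends D) (fun w => mfMatrix ends β v w * y (DualGr.ctrMk ends D w))]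
  refine sum_congr rfl fun c' _ => sum_congr rfl fun w hw => ?_
  rw [mem_filter] at hw
  rw [hw.2]

end Groth.Agent.LabG36
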